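import Cfsg.Agent.Lib.PairsSylow.Factor
import Cfsg.Agent.Lib.Blocks.HallHigman
import Cfsg.Agent.Lib.Blocks.FongReduction
import Cfsg.Agent.Lib.PLocal.SolvableSeparable
import Cfsg.Agent.Lib.SmallDegrees.BelowPrime
import Cfsg.Agent.Lib.Fusion.PSolvable

/-!
# Flavell's theorem: `p`-solubility is detected by pairs of Sylow `p`-subgroups

Let `P` be a Sylow `p`-subgroup and `V` the subgroup of `P` generated by its elements which are central in
some Sylow `p`-subgroup.  If every two Sylow `p`-subgroups generate a `p`-solvable group, then `V` is abelian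
and its conjugates are controlled by `V`-invariant `p'`-subgroups, so the factorization theorem applies.
-/

set_option autoImplicit false
set_option linter.style.haveILetI false

universe u

namespace CfsgLib.PairsSylow

open Cfsg
open scoped Pointwise commutatorElement

variable {G : Type u} [Group G] [Finite G] {p : ℕ} [Fact p.Prime]

theorem not_dvd_map_pPrimeCore (L : Subgroup G) :
    ¬ p ∣ Nat.card ((pPrimeCore p L).map L.subtype) := by
  rw [Subgroup.card_map_of_injective L.subtype_injective]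
  exact CfsgLib.not_dvd_card_pPrimeCore Fact.out

theorem le_normalizer_map_pPrimeCore (L : Subgroup G) :
    L ≤ Subgroup.normalizer (((pPrimeCore p L).map L.subtype : Subgroup G) : Set G) := by
  have := Subgroup.le_normalizer_map (H := pPrimeCore p L) L.subtype
  rwa [Subgroup.normalizer_eq_top, ← MonoidHom.range_eq_map, Subgroup.range_subtype] at this

theorem eq_one_of_pPrime_of_isPGroup {K S : Subgroup G} (hK : ¬ p ∣ Nat.card K) (hS : IsPGroup p S)
    {c : G} (hc : c ∈ K) (hcS : c ∈ S) : c = 1 := by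
  obtain ⟨j, hj⟩ := IsPGroup.iff_orderOf.1 hS ⟨c, hcS⟩
  rw [Subgroup.orderOf_mk] at hj
  exact orderOf_eq_one_iff.1 (Nat.eq_one_of_dvd_coprimes
    (((Fact.out : p.Prime).coprime_iff_not_dvd.2 hK).pow_left j) (dvd_of_eq hj)
    (Subgroup.orderOf_dvd_natCard K hc))

section Quot

variable {M : Type u} [Group M] [Finite M]

/-- In a `p`-solvable group an element centralizing a Sylow subgroup containing it lies in `O_{p',p}`. -/
theorem mem_pCore_quotient (hM : IsPSolvable p M) (S : Sylow p M) {a : M}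
    (ha : (S : Subgroup M) ≤ Subgroup.centralizer ({a} : Set M)) :
    QuotientGroup.mk' (pPrimeCore p M) a ∈ pCore p (M ⧸ pPrimeCore p M) := by
  set π := QuotientGroup.mk' (pPrimeCore p M) with hπ
  refine CfsgLib.Blocks.hall_higman (Cfsg.Agent.S3744.isPSolvable_quotient hM _)
    (CfsgLib.pPrimeCore_quotient_eq_bot p) (Subgroup.mem_centralizer_iff.2 fun q hq => ?_)
  obtain ⟨s, hs, rfl⟩ := CfsgLib.pCore_le_sylow (S.mapSurjective (QuotientGroup.mk'_surjective _)) hq
  rw [← map_mul, ← map_mul, Subgroup.mem_centralizer_singleton_iff.1 (ha hs)]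

/-- Two elements central in Sylow subgroups commute modulo `O_{p'}`. -/
theorem commutator_mem_pPrimeCore (hM : IsPSolvable p M) (S T : Sylow p M) {a b : M}
    (ha : (S : Subgroup M) ≤ Subgroup.centralizer ({a} : Set M))
    (hb : (T : Subgroup M) ≤ Subgroup.centralizer ({b} : Set M)) : ⁅a, b⁆ ∈ pPrimeCore p M := by
  set π := QuotientGroup.mk' (pPrimeCore p M) with hπ
  obtain ⟨t, ht, hta⟩ := CfsgLib.pCore_le_sylow (T.mapSurjective (QuotientGroup.mk'_surjective _))
    (mem_pCore_quotient hM S ha)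
  have hcomm : π a * π b = π b * π a := by
    rw [← hta, ← map_mul, ← map_mul, Subgroup.mem_centralizer_singleton_iff.1 (hb ht)]
  refine (QuotientGroup.eq_one_iff _).1 ?_
  show π _ = 1
  rw [commutatorElement_def, map_mul, map_mul, map_mul, map_inv, map_inv, hcomm]
  group

/-- The main local step: `v` lies in `O_{p',p}`. -/
theorem mem_pCore_quotient_of_signalizers (hM : IsPSolvable p M) (R : Sylow p M) {v : M}
    (hv : v ∈ (R : Subgroup M)) (hcomm : ∀ r ∈ (R : Subgroup M), Commute v (r * v * r⁻¹))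
    (hJ : ∀ f : M, ∃ J : Subgroup M, ¬ p ∣ Nat.card J ∧
      (R : Subgroup M) ⊓ Subgroup.centralizer ({v} : Set M) ≤ Subgroup.normalizer (J : Set M) ∧
      ⁅v, f * v * f⁻¹⁆ ∈ J) :
    QuotientGroup.mk' (pPrimeCore p M) v ∈ pCore p (M ⧸ pPrimeCore p M) := by
  classical
  have hp : p.Prime := Fact.out
  set O := pPrimeCore p M with hO
  set π := QuotientGroup.mk' O with hπ
  set Q := pCore p (M ⧸ O) with hQ
  haveI hQn : Q.Normal := CfsgLib.Blocks.pCore_normal'
  have hQp : IsPGroup p Q := CfsgLib.isPGroup_pCore p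
  have hhh : Subgroup.centralizer (Q : Set (M ⧸ O)) ≤ Q :=
    CfsgLib.Blocks.hall_higman (Cfsg.Agent.S3744.isPSolvable_quotient hM _)
      (CfsgLib.pPrimeCore_quotient_eq_bot p)
  have hQR : ∀ q ∈ Q, ∃ r ∈ (R : Subgroup M), π r = q := fun q hq => by
    obtain ⟨r, hr, e⟩ := CfsgLib.pCore_le_sylow (R.mapSurjective (QuotientGroup.mk'_surjective _)) hq
    exact ⟨r, hr, e⟩
  -- fixed points of `v` in `Q` lift to the centralizer in `R`
  have hlift : ∀ q ∈ Q, Commute (π v) q → ∃ r ∈ (R : Subgroup M), π r = q ∧ Commute v r := by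
    intro q hq hc
    obtain ⟨r, hr, rfl⟩ := hQR q hq
    refine ⟨r, hr, rfl, ?_⟩
    have h1 : v * r * v⁻¹ * r⁻¹ = 1 := by
      refine eq_one_of_pPrime_of_isPGroup (CfsgLib.not_dvd_card_pPrimeCore hp : ¬ p ∣ Nat.card O) R.2
        ((QuotientGroup.eq_one_iff _).1 ?_)
        ((R : Subgroup M).mul_mem ((R : Subgroup M).mul_mem ((R : Subgroup M).mul_mem hv hr)
          ((R : Subgroup M).inv_mem hv)) ((R : Subgroup M).inv_mem hr))
      show π _ = 1
      rw [map_mul, map_mul, map_mul, map_inv, map_inv, hc.eq]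
      group
    exact mul_inv_eq_iff_eq_mul.1 (mul_inv_eq_one.1 h1)
  -- `[Q, v]` is centralized by `v`
  have hU : ∀ q ∈ Q, Commute (π v) (q * π v * q⁻¹) := by
    intro q hq
    obtain ⟨r, hr, rfl⟩ := hQR q hq
    have h := (hcomm r hr).map π
    rwa [map_mul, map_mul, map_inv] at h
  -- the images of the signalizers are trivial
  have hkey : ∀ J : Subgroup M, ¬ p ∣ Nat.card J →
      (R : Subgroup M) ⊓ Subgroup.centralizer ({v} : Set M) ≤ Subgroup.normalizer (J : Set M) →
      J ≤ O := by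
    intro J hJp hJn
    set Jb := J.map π with hJb
    have hJbp : ¬ p ∣ Nat.card Jb := fun hd => hJp (hd.trans (J.card_map_dvd π))
    -- (i) centralizing the fixed points
    have hi : ∀ j ∈ Jb, ∀ q ∈ Q, Commute (π v) q → Commute j q := by
      intro j hj q hq hc
      obtain ⟨r, hr, rfl, hrv⟩ := hlift q hq hc
      have hrN : π r ∈ Subgroup.normalizer (Jb : Set (M ⧸ O)) :=
        Subgroup.le_normalizer_map π ⟨r, hJn ⟨hr, Subgroup.mem_centralizer_singleton_iff.2 hrv.symm.eq⟩, rfl⟩
      have h1 : j * π r * j⁻¹ * (π r)⁻¹ = 1 := by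
        refine eq_one_of_pPrime_of_isPGroup hJbp hQp ?_ (Q.mul_mem (hQn.conj_mem _ hq j) (Q.inv_mem hq))
        rw [show j * π r * j⁻¹ * (π r)⁻¹ = j * (π r * j⁻¹ * (π r)⁻¹) by group]
        exact Jb.mul_mem hj ((Subgroup.mem_normalizer_iff.1 hrN _).1 (Jb.inv_mem hj))
      exact mul_inv_eq_iff_eq_mul.1 (mul_inv_eq_one.1 h1)
    have hvN : π v ∈ Subgroup.normalizer (Jb : Set (M ⧸ O)) :=
      Subgroup.le_normalizer_map π ⟨v, hJn ⟨hv, Subgroup.mem_centralizer_singleton_iff.2 rfl⟩, rfl⟩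
    set vb := π v with hvb
    -- the elements `u q` with `u` a fixed point
    have hdef : ∀ q ∈ Q, vb * q * vb⁻¹ * q⁻¹ ∈ Q ∧ Commute vb (vb * q * vb⁻¹ * q⁻¹) := by
      intro q hq
      refine ⟨Q.mul_mem (hQn.conj_mem _ hq vb) (Q.inv_mem hq), ?_⟩
      rw [show vb * q * vb⁻¹ * q⁻¹ = vb * (q * vb * q⁻¹)⁻¹ by group]
      exact (Commute.refl vb).mul_right (hU q hq).inv_right
    -- (ii) `J` commutes with `v`
    have hii : ∀ j ∈ Jb, Commute vb j := by
      intro j hj
      set d := j * vb * j⁻¹ * vb⁻¹ with hd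
      have hdJ : d ∈ Jb := by
        rw [hd, show j * vb * j⁻¹ * vb⁻¹ = j * (vb * j⁻¹ * vb⁻¹) by group]
        exact Jb.mul_mem hj ((Subgroup.mem_normalizer_iff.1 hvN _).1 (Jb.inv_mem hj))
      have hdC : d ∈ Subgroup.centralizer (Q : Set (M ⧸ O)) := by
        rw [Subgroup.mem_centralizer_iff]
        intro q hq
        set q' := j⁻¹ * q * j with hq'
        have hq'Q : q' ∈ Q := by
          rw [hq', show j⁻¹ * q * j = j⁻¹ * q * j⁻¹⁻¹ by group]
          exact hQn.conj_mem _ hq _
        have hq''Q : vb⁻¹ * q * vb ∈ Q := by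
          rw [show vb⁻¹ * q * vb = vb⁻¹ * q * vb⁻¹⁻¹ by group]
          exact hQn.conj_mem _ hq _
        obtain ⟨hu', hu'c⟩ := hdef q' hq'Q
        obtain ⟨hw, hwc⟩ := hdef _ hq''Q
        set u' := vb * q' * vb⁻¹ * q'⁻¹ with hu'd
        set w := vb * (vb⁻¹ * q * vb) * vb⁻¹ * (vb⁻¹ * q * vb)⁻¹ with hwd
        have e1 : j * vb * j⁻¹ * q * (j * vb * j⁻¹)⁻¹ = u' * q := by
          rw [show j * vb * j⁻¹ * q * (j * vb * j⁻¹)⁻¹ = j * (u' * q') * j⁻¹ by rw [hu'd, hq']; group,
            show j * (u' * q') * j⁻¹ = (j * u' * j⁻¹) * (j * q' * j⁻¹) by group,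
            show j * q' * j⁻¹ = q by rw [hq']; group,
            show j * u' * j⁻¹ = u' by rw [(hi j hj u' hu' hu'c).eq, mul_inv_cancel_right]]
        have e2 : vb⁻¹ * q * vb = w⁻¹ * q := by rw [hwd]; group
        have e3 : d * q * d⁻¹ = (w⁻¹ * u') * q := by
          have h1 : Commute (j * vb * j⁻¹) w := by
            have hjw : Commute j w := hi j hj w hw hwc
            exact (hjw.mul_left hwc).mul_left hjw.inv_left
          calc d * q * d⁻¹ = (j * vb * j⁻¹) * (vb⁻¹ * q * vb) * (j * vb * j⁻¹)⁻¹ := by rw [hd]; group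
            _ = (j * vb * j⁻¹) * w⁻¹ * (j * vb * j⁻¹)⁻¹ * ((j * vb * j⁻¹) * q * (j * vb * j⁻¹)⁻¹) := by
                rw [e2]; group
            _ = w⁻¹ * (u' * q) := by rw [h1.inv_right.eq, mul_inv_cancel_right, e1]
            _ = (w⁻¹ * u') * q := by group
        set u := w⁻¹ * u' with hu
        have huQ : u ∈ Q := Q.mul_mem (Q.inv_mem hw) hu'
        have hdu : Commute d u := by
          refine hi d hdJ u huQ (hwc.inv_right.mul_right hu'c)
        have hpow : ∀ n : ℕ, d ^ n * q * (d ^ n)⁻¹ = u ^ n * q := by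
          intro n
          induction n with
          | zero => simp
          | succ n ih =>
            rw [pow_succ', show d * d ^ n * q * (d * d ^ n)⁻¹ = d * (d ^ n * q * (d ^ n)⁻¹) * d⁻¹ by group,
              ih, show d * (u ^ n * q) * d⁻¹ = (d * u ^ n * d⁻¹) * (d * q * d⁻¹) by group,
              (hdu.pow_right n).eq, mul_inv_cancel_right, e3, pow_succ, mul_assoc (u ^ n)]
        have hu1 : u = 1 := by
          have h2 := hpow (orderOf d)
          rw [pow_orderOf_eq_one, one_mul, inv_one, mul_one] at h2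
          obtain ⟨k, hk⟩ := IsPGroup.iff_orderOf.1 hQp ⟨u, huQ⟩
          rw [Subgroup.orderOf_mk] at hk
          refine orderOf_eq_one_iff.1 (Nat.eq_one_of_dvd_coprimes
            ((hp.coprime_iff_not_dvd.2 hJbp).pow_left k) (dvd_of_eq hk) ?_)
          exact (orderOf_dvd_of_pow_eq_one (by simpa using h2.symm)).trans
            (Subgroup.orderOf_dvd_natCard Jb hdJ)
        rw [hu1, one_mul] at e3
        exact (mul_inv_eq_iff_eq_mul.1 e3).symm
      have hd1 : d = 1 := eq_one_of_pPrime_of_isPGroup hJbp hQp hdJ (hhh hdC)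
      exact (mul_inv_eq_iff_eq_mul.1 (mul_inv_eq_one.1 (hd ▸ hd1))).symm
    -- (iii) Thompson's lemma
    have hvp : IsPGroup p (Subgroup.zpowers vb) := by
      refine ((R.2.map π).to_le ?_)
      rw [Subgroup.zpowers_le]
      exact ⟨v, hv, rfl⟩
    have hfin := CfsgLib.thompson_PxQ hvp
      ((hp.coprime_iff_not_dvd.2 hJbp).symm : (Nat.card Jb).Coprime p)
      (Subgroup.zpowers_le.2 (Subgroup.mem_centralizer_iff.2 fun j hj => (hii j hj).symm.eq))
      Q hQp (le_top.trans_eq (Subgroup.normalizer_eq_top Q).symm)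
      (le_top.trans_eq (Subgroup.normalizer_eq_top Q).symm) (by
        rintro q ⟨hq, hqc⟩
        refine Subgroup.mem_centralizer_iff.2 fun j hj => (hi j hj q hq ?_).eq
        exact Subgroup.mem_centralizer_iff.1 hqc vb (Subgroup.mem_zpowers vb))
    intro j hj
    refine (QuotientGroup.eq_one_iff _).1 ?_
    exact eq_one_of_pPrime_of_isPGroup hJbp hQp (Subgroup.mem_map_of_mem π hj)
      (hhh (hfin (Subgroup.mem_map_of_mem π hj)))
  -- all conjugates of `v` commute modulo `O`
  have hall : ∀ f : M ⧸ O, Commute (π v) (f * π v * f⁻¹) := by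
    intro fb
    obtain ⟨f, rfl⟩ := QuotientGroup.mk'_surjective O fb
    obtain ⟨J, hJp, hJn, hfJ⟩ := hJ f
    have h1 : π ⁅v, f * v * f⁻¹⁆ = 1 := (QuotientGroup.eq_one_iff _).2 (hkey J hJp hJn hfJ)
    rw [commutatorElement_def, map_mul, map_mul, map_mul, map_inv, map_inv] at h1
    have h2 : Commute (π v) (π (f * v * f⁻¹)) := mul_inv_eq_iff_eq_mul.1 (mul_inv_eq_one.1 h1)
    rwa [map_mul, map_mul, map_inv] at h2
  set N := Subgroup.normalClosure ({π v} : Set (M ⧸ O)) with hN
  have hgen : ∀ y ∈ Group.conjugatesOfSet ({π v} : Set (M ⧸ O)), ∀ z ∈ Group.conjugatesOfSet ({π v} : Set (M ⧸ O)),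
      Commute y z := by
    intro y hy z hz
    obtain ⟨a, rfl, hy⟩ := Group.mem_conjugatesOfSet_iff.1 hy
    obtain ⟨b, rfl, hz⟩ := Group.mem_conjugatesOfSet_iff.1 hz
    obtain ⟨f, rfl⟩ := isConj_iff.1 hy
    obtain ⟨g, rfl⟩ := isConj_iff.1 hz
    have h := (hall (f⁻¹ * g)).map (MulAut.conj f).toMonoidHom
    simp only [MulEquiv.coe_toMonoidHom, MulAut.conj_apply] at h
    rwa [show f * (f⁻¹ * g * π v * (f⁻¹ * g)⁻¹) * f⁻¹ = g * π v * g⁻¹ by group] at h
  haveI : IsMulCommutative N := Subgroup.isMulCommutative_closure fun y hy z hz => (hgen y hy z hz).eq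
  have hNp : IsPGroup p N := by
    intro y
    obtain ⟨y, hy⟩ := y
    suffices h : ∃ k : ℕ, y ^ p ^ k = 1 by
      obtain ⟨k, hk⟩ := h
      exact ⟨k, Subtype.ext hk⟩
    clear_value N
    subst hN
    induction hy using Subgroup.closure_induction with
    | mem y hy =>
      obtain ⟨a, rfl, hy⟩ := Group.mem_conjugatesOfSet_iff.1 hy
      obtain ⟨f, rfl⟩ := isConj_iff.1 hy
      obtain ⟨k, hk⟩ := (R.2.map π) ⟨π v, v, hv, rfl⟩
      refine ⟨k, ?_⟩
      rw [conj_pow, show π v ^ p ^ k = 1 from congrArg Subtype.val hk, mul_one, mul_inv_cancel]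
    | one => exact ⟨0, one_pow _⟩
    | mul a b ha hb h1 h2 =>
      obtain ⟨k, hk⟩ := h1
      obtain ⟨l, hl⟩ := h2
      have hab : Commute a b := congrArg Subtype.val
        (mul_comm' (⟨a, ha⟩ : Subgroup.normalClosure ({π v} : Set (M ⧸ O))) ⟨b, hb⟩)
      refine ⟨k + l, ?_⟩
      rw [hab.mul_pow, pow_add, pow_mul, hk, one_pow, mul_comm (p ^ k), pow_mul, hl, one_pow, one_mul]
    | inv a _ h1 =>
      obtain ⟨k, hk⟩ := h1
      exact ⟨k, by rw [inv_pow, hk, inv_one]⟩
  exact CfsgLib.le_pCore hNp (Subgroup.subset_normalClosure (Set.mem_singleton _))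

end Quot

/-- An element central in some Sylow subgroup. -/
def IsCent (p : ℕ) (a : G) : Prop :=
  ∃ R : Sylow p G, a ∈ (R : Subgroup G) ∧ (R : Subgroup G) ≤ Subgroup.centralizer ({a} : Set G)

/-- Every two Sylow subgroups generate a `p`-solvable subgroup. -/
def Pairs (p : ℕ) (G : Type u) [Group G] : Prop :=
  ∀ R S : Sylow p G, IsPSolvable p ↥((R : Subgroup G) ⊔ (S : Subgroup G))

theorem IsCent.conj {a : G} (h : IsCent p a) (g : G) : IsCent p (g * a * g⁻¹) := by
  obtain ⟨R, ha, hR⟩ := h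
  refine ⟨MulAut.conj g • R, ?_, ?_⟩
  · rw [Sylow.pointwise_smul_def]
    exact Subgroup.smul_mem_pointwise_smul a (MulAut.conj g) _ ha
  · intro y hy
    rw [Sylow.pointwise_smul_def] at hy
    obtain ⟨r, hr, rfl⟩ := hy
    have h1 : Commute r a := Subgroup.mem_centralizer_singleton_iff.1 (hR hr)
    exact Subgroup.mem_centralizer_singleton_iff.2 (h1.map (MulAut.conj g).toMonoidHom).eq

theorem subtype_le_centralizer {L : Subgroup G} {R : Sylow p G} (hR : (R : Subgroup G) ≤ L) {a : L}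
    (h : (R : Subgroup G) ≤ Subgroup.centralizer ({(a : G)} : Set G)) :
    ((R.subtype hR : Sylow p L) : Subgroup L) ≤ Subgroup.centralizer ({a} : Set L) := by
  intro r hr
  rw [Sylow.coe_subtype, Subgroup.mem_subgroupOf] at hr
  exact Subgroup.mem_centralizer_singleton_iff.2
    (Subtype.ext (Subgroup.mem_centralizer_singleton_iff.1 (h hr)))

/-- Commutators of two central elements lie in a signalizer. -/
theorem commutator_mem_core (hP : Pairs p G) {a b : G} {R S : Sylow p G} (haR : a ∈ (R : Subgroup G))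
    (ha : (R : Subgroup G) ≤ Subgroup.centralizer ({a} : Set G)) (hbS : b ∈ (S : Subgroup G))
    (hb : (S : Subgroup G) ≤ Subgroup.centralizer ({b} : Set G)) :
    ⁅a, b⁆ ∈ (pPrimeCore p ↥((R : Subgroup G) ⊔ (S : Subgroup G))).map
      ((R : Subgroup G) ⊔ (S : Subgroup G)).subtype := by
  set L := (R : Subgroup G) ⊔ (S : Subgroup G) with hL
  have haL : a ∈ L := Subgroup.mem_sup_left haR
  have hbL : b ∈ L := Subgroup.mem_sup_right hbS
  exact ⟨⁅(⟨a, haL⟩ : L), ⟨b, hbL⟩⁆, commutator_mem_pPrimeCore (hP R S)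
    (R.subtype le_sup_left) (S.subtype le_sup_right)
    (subtype_le_centralizer (a := ⟨a, haL⟩) le_sup_left ha)
    (subtype_le_centralizer (a := ⟨b, hbL⟩) le_sup_right hb), rfl⟩

/-- Central elements in a common `p`-subgroup commute. -/
theorem commute_of_mem (hP : Pairs p G) {a b : G} (ha : IsCent p a) (hb : IsCent p b) {X : Subgroup G}
    (hX : IsPGroup p X) (haX : a ∈ X) (hbX : b ∈ X) : Commute a b := by
  obtain ⟨R, haR, hRa⟩ := ha
  obtain ⟨S, hbS, hSb⟩ := hb
  have h1 : ⁅a, b⁆ = 1 := eq_one_of_pPrime_of_isPGroup (not_dvd_map_pPrimeCore _) hX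
    (commutator_mem_core hP haR hRa hbS hSb) (by
      rw [commutatorElement_def]
      exact X.mul_mem (X.mul_mem (X.mul_mem haX hbX) (X.inv_mem haX)) (X.inv_mem hbX))
  exact commutatorElement_eq_one_iff_commute.1 h1

/-- A central element of a Sylow subgroup lies in `O_{p',p}` of every pair group containing it. -/
theorem mem_pCore_quotient_pair (hP : Pairs p G) {R S : Sylow p G} {v : G} (hv : IsCent p v)
    (hvR : v ∈ (R : Subgroup G)) :
    QuotientGroup.mk' (pPrimeCore p ↥((R : Subgroup G) ⊔ (S : Subgroup G)))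
        ⟨v, Subgroup.mem_sup_left hvR⟩ ∈
      pCore p (↥((R : Subgroup G) ⊔ (S : Subgroup G)) ⧸ pPrimeCore p ↥((R : Subgroup G) ⊔ (S : Subgroup G))) := by
  classical
  set L := (R : Subgroup G) ⊔ (S : Subgroup G) with hL
  -- a Sylow subgroup centralizing `v` and containing `C_R(v)`
  set C := Subgroup.centralizer ({v} : Set G) with hC
  obtain ⟨R₀, hvR₀, hR₀⟩ := hv
  set X := (R : Subgroup G) ⊓ C with hX
  obtain ⟨T, hT⟩ := ((R.2.to_le inf_le_left).of_equiv
    (Subgroup.subgroupOfEquivOfLe (inf_le_right : X ≤ C)).symm).exists_le_sylow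
  have hTG : IsPGroup p ((T : Subgroup C).map C.subtype) := T.2.map _
  have hcard : Nat.card ((T : Subgroup C).map C.subtype) = Nat.card (R₀ : Subgroup G) := by
    rw [Subgroup.card_map_of_injective C.subtype_injective, ← Nat.card_congr (Sylow.equiv (R₀.subtype hR₀) T).toEquiv]
    exact Nat.card_congr (Subgroup.subgroupOfEquivOfLe hR₀).toEquiv
  obtain ⟨H, hH⟩ := hTG.exists_le_sylow
  have hHeq : (H : Subgroup G) = (T : Subgroup C).map C.subtype := by
    refine (Subgroup.eq_of_le_of_card_ge hH (le_of_eq ?_)).symm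
    rw [hcard]
    exact Nat.card_congr (Sylow.equiv H R₀).toEquiv
  have hXH : X ≤ (H : Subgroup G) := by
    rw [hHeq]
    intro y hy
    exact ⟨⟨y, hy.2⟩, hT (Subgroup.mem_subgroupOf.2 hy), rfl⟩
  have hHC : (H : Subgroup G) ≤ C := hHeq ▸ Subgroup.map_subtype_le _
  have hvH : v ∈ (H : Subgroup G) := hXH ⟨hvR, Subgroup.mem_centralizer_singleton_iff.2 rfl⟩
  refine mem_pCore_quotient_of_signalizers (hP R S) (R.subtype le_sup_left)
    (by rw [Sylow.coe_subtype]; exact Subgroup.mem_subgroupOf.2 hvR) ?_ ?_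
  · intro r hr
    rw [Sylow.coe_subtype, Subgroup.mem_subgroupOf] at hr
    exact Subtype.ext (commute_of_mem hP ⟨R₀, hvR₀, hR₀⟩ (IsCent.conj ⟨R₀, hvR₀, hR₀⟩ (r : G)) R.2 hvR
      ((R : Subgroup G).mul_mem ((R : Subgroup G).mul_mem hr hvR) ((R : Subgroup G).inv_mem hr))).eq
  · intro f
    set H' : Sylow p G := MulAut.conj (f : G) • H with hH'
    set U := (H : Subgroup G) ⊔ (H' : Subgroup G) with hU
    set J := (pPrimeCore p U).map U.subtype with hJ
    refine ⟨J.subgroupOf L, fun hd => not_dvd_map_pPrimeCore (p := p) U (hd.trans ?_), ?_, ?_⟩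
    · rw [← Subgroup.card_map_of_injective L.subtype_injective]
      exact Subgroup.card_dvd_of_le (by rintro _ ⟨e, he, rfl⟩; exact he)
    · rintro r ⟨hr, hrv⟩
      rw [Sylow.coe_subtype] at hr
      have hrX : (r : G) ∈ X := ⟨Subgroup.mem_subgroupOf.1 hr,
        Subgroup.mem_centralizer_singleton_iff.2 (congrArg Subtype.val
          (Subgroup.mem_centralizer_singleton_iff.1 hrv))⟩
      have hrU := le_normalizer_map_pPrimeCore (p := p) U (Subgroup.mem_sup_left (hXH hrX))
      rw [Subgroup.mem_normalizer_iff]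
      exact fun e => Subgroup.mem_normalizer_iff.1 hrU (e : G)
    · rw [Subgroup.mem_subgroupOf]
      show ⁅v, (f : G) * v * (f : G)⁻¹⁆ ∈ J
      refine commutator_mem_core hP hvH hHC ?_ ?_
      · rw [hH', Sylow.pointwise_smul_def]
        exact Subgroup.smul_mem_pointwise_smul v (MulAut.conj (f : G)) _ hvH
      · intro y hy
        rw [hH', Sylow.pointwise_smul_def] at hy
        obtain ⟨r, hr, rfl⟩ := hy
        have h1 : Commute r v := Subgroup.mem_centralizer_singleton_iff.1 (hHC hr)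
        exact Subgroup.mem_centralizer_singleton_iff.2 (h1.map (MulAut.conj (f : G)).toMonoidHom).eq

/-- The subgroup generated by the central elements of a Sylow subgroup. -/
def centGen (p : ℕ) (R : Sylow p G) : Subgroup G :=
  Subgroup.closure {a | a ∈ (R : Subgroup G) ∧ IsCent p a}

theorem centGen_le (R : Sylow p G) : centGen p R ≤ (R : Subgroup G) :=
  (Subgroup.closure_le _).2 fun _ ha => ha.1

/-- The conjugates of the central subgroup are controlled by the signalizers. -/
theorem centGen_conj_le (hP : Pairs p G) (R S : Sylow p G) {a : G} (ha : IsCent p a)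
    (haS : a ∈ (S : Subgroup G)) :
    a ∈ (pPrimeCore p ↥((R : Subgroup G) ⊔ (S : Subgroup G))).map
        ((R : Subgroup G) ⊔ (S : Subgroup G)).subtype ⊔ centGen p R := by
  set L := (R : Subgroup G) ⊔ (S : Subgroup G) with hL
  set π := QuotientGroup.mk' (pPrimeCore p L) with hπ
  set K := (pPrimeCore p L).map L.subtype with hK
  have haL : a ∈ L := Subgroup.mem_sup_right haS
  have hmem : π ⟨a, haL⟩ ∈ pCore p (L ⧸ pPrimeCore p L) := by
    have h := mem_pCore_quotient_pair hP (R := S) (S := R) ha haS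
    have key : ∀ (A B : Subgroup G) (e : A = B) (hA : a ∈ A) (hB : a ∈ B),
        QuotientGroup.mk' (pPrimeCore p A) ⟨a, hA⟩ ∈ pCore p (A ⧸ pPrimeCore p A) →
        QuotientGroup.mk' (pPrimeCore p B) ⟨a, hB⟩ ∈ pCore p (B ⧸ pPrimeCore p B) := by
      intro A B e hA hB h
      subst e
      exact h
    exact key _ _ (sup_comm _ _) _ haL h
  obtain ⟨r, hr, hra⟩ := CfsgLib.pCore_le_sylow
    ((R.subtype (le_sup_left : (R : Subgroup G) ≤ L)).mapSurjective (QuotientGroup.mk'_surjective _)) hmem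
  rw [SetLike.mem_coe, Sylow.coe_subtype, Subgroup.mem_subgroupOf] at hr
  have hk : a * (r : G)⁻¹ ∈ K := by
    refine ⟨⟨a, haL⟩ * r⁻¹, (QuotientGroup.eq_one_iff _).1 ?_, rfl⟩
    show π _ = 1
    rw [map_mul, map_inv, mul_inv_eq_one]
    exact hra.symm
  have hRK : (R : Subgroup G) ≤ Subgroup.normalizer (K : Set G) :=
    le_sup_left.trans (le_normalizer_map_pPrimeCore L)
  have haKR : a ∈ K ⊔ (R : Subgroup G) := by
    rw [show a = a * (r : G)⁻¹ * r by group]
    exact Subgroup.mul_mem_sup hk hr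
  -- conjugate `a` into `R`
  have hconj : ∃ c ∈ K, c * a * c⁻¹ ∈ (R : Subgroup G) := by
    set U := K ⊔ (R : Subgroup G) with hU
    obtain ⟨k, hk'⟩ := IsPGroup.iff_orderOf.1 S.2 ⟨a, haS⟩
    rw [Subgroup.orderOf_mk] at hk'
    obtain ⟨T, hT⟩ := (IsPGroup.iff_card.2 ⟨k, by
      rw [Nat.card_zpowers, Subgroup.orderOf_mk, hk']⟩ :
        IsPGroup p (Subgroup.zpowers (⟨a, haKR⟩ : U))).exists_le_sylow
    obtain ⟨w, hw⟩ := MulAction.exists_smul_eq U T (R.subtype (le_sup_right : (R : Subgroup G) ≤ U))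
    obtain ⟨c, hc, b, hb, hcb⟩ := CfsgLib.mem_sup_of_le_normalizer hRK (w⁻¹).2
    refine ⟨c⁻¹, K.inv_mem hc, ?_⟩
    have h1 : w * ⟨a, haKR⟩ * w⁻¹ ∈ ((R.subtype (le_sup_right : (R : Subgroup G) ≤ U) : Sylow p U) : Subgroup U) := by
      rw [← hw, Sylow.coe_subgroup_smul]
      exact Subgroup.smul_mem_pointwise_smul _ (MulAut.conj w) _ (hT (Subgroup.mem_zpowers _))
    rw [Sylow.coe_subtype, Subgroup.mem_subgroupOf] at h1
    have e : c⁻¹ * a * c⁻¹⁻¹ = b * ((w : G) * a * (w : G)⁻¹) * b⁻¹ := by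
      have hw' : (w : G) = b⁻¹ * c⁻¹ := by rw [← inv_inv (w : G), ← Subgroup.coe_inv, ← hcb, mul_inv_rev]
      rw [hw']; group
    rw [e]
    exact (R : Subgroup G).mul_mem ((R : Subgroup G).mul_mem hb h1) ((R : Subgroup G).inv_mem hb)
  obtain ⟨c, hc, hcR⟩ := hconj
  rw [show a = c⁻¹ * (c * a * c⁻¹) * c by group]
  exact mul_mem (mul_mem (Subgroup.mem_sup_left (K.inv_mem hc))
    (Subgroup.mem_sup_right (Subgroup.subset_closure ⟨hcR, ha.conj c⟩))) (Subgroup.mem_sup_left hc)

/-- A `p'`-subgroup normalized by a Sylow subgroup of a `p`-solvable group lies in `O_{p'}`. -/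
theorem le_pPrimeCore_of_sylow_le_normalizer {M : Type u} [Group M] [Finite M] (hM : IsPSolvable p M)
    (R : Sylow p M) {D : Subgroup M} (hD : ¬ p ∣ Nat.card D)
    (hRD : (R : Subgroup M) ≤ Subgroup.normalizer (D : Set M)) : D ≤ pPrimeCore p M := by
  set π := QuotientGroup.mk' (pPrimeCore p M) with hπ
  set Q := pCore p (M ⧸ pPrimeCore p M) with hQ
  haveI hQn : Q.Normal := CfsgLib.Blocks.pCore_normal'
  have hQp : IsPGroup p Q := CfsgLib.isPGroup_pCore p
  have hDb : ¬ p ∣ Nat.card (D.map π) := fun hd => hD (hd.trans (D.card_map_dvd π))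
  intro d hd
  refine (QuotientGroup.eq_one_iff _).1 ?_
  refine eq_one_of_pPrime_of_isPGroup hDb hQp (Subgroup.mem_map_of_mem π hd)
    (CfsgLib.Blocks.hall_higman (Cfsg.Agent.S3744.isPSolvable_quotient hM _)
      (CfsgLib.pPrimeCore_quotient_eq_bot p) (Subgroup.mem_centralizer_iff.2 fun q hq => ?_))
  obtain ⟨r, hr, rfl⟩ := CfsgLib.pCore_le_sylow (R.mapSurjective (QuotientGroup.mk'_surjective _)) hq
  have h1 : π d * π r * (π d)⁻¹ * (π r)⁻¹ = 1 := by
    refine eq_one_of_pPrime_of_isPGroup hDb hQp ?_ (Q.mul_mem (hQn.conj_mem _ hq _) (Q.inv_mem hq))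
    rw [show π d * π r * (π d)⁻¹ * (π r)⁻¹ = π d * (π r * (π d)⁻¹ * (π r)⁻¹) by group]
    exact (D.map π).mul_mem (Subgroup.mem_map_of_mem π hd)
      ((Subgroup.mem_normalizer_iff.1 (Subgroup.le_normalizer_map π ⟨r, hRD hr, rfl⟩) _).1
        ((D.map π).inv_mem (Subgroup.mem_map_of_mem π hd)))
  exact (mul_inv_eq_iff_eq_mul.1 (mul_inv_eq_one.1 h1)).symm

theorem Pairs.subgroup (hP : Pairs p G) {M : Subgroup G} {R₀ : Sylow p G} (hR₀ : (R₀ : Subgroup G) ≤ M) :
    Pairs p M := by
  intro R S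
  have hlift : ∀ T : Sylow p M, ∃ T' : Sylow p G, (T' : Subgroup G) = (T : Subgroup M).map M.subtype := by
    intro T
    obtain ⟨T', hT'⟩ := (T.2.map M.subtype).exists_le_sylow
    refine ⟨T', (Subgroup.eq_of_le_of_card_ge hT' (le_of_eq ?_)).symm⟩
    rw [Subgroup.card_map_of_injective M.subtype_injective,
      ← Nat.card_congr (Sylow.equiv (R₀.subtype hR₀) T).toEquiv,
      Nat.card_congr (Sylow.equiv T' R₀).toEquiv]
    exact (Nat.card_congr (Subgroup.subgroupOfEquivOfLe hR₀).toEquiv).symm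
  obtain ⟨R', hR'⟩ := hlift R
  obtain ⟨S', hS'⟩ := hlift S
  have e : ((R : Subgroup M) ⊔ (S : Subgroup M)).map M.subtype = (R' : Subgroup G) ⊔ (S' : Subgroup G) := by
    rw [Subgroup.map_sup, hR', hS']
  have h := hP R' S'
  rw [← e] at h
  exact CfsgLib.PSolvableClosure.of_surjective
    (Subgroup.equivMapOfInjective _ M.subtype M.subtype_injective).symm.toMonoidHom
    (MulEquiv.surjective _) h

theorem Pairs.quotient (hP : Pairs p G) (N : Subgroup G) [N.Normal] : Pairs p (G ⧸ N) := by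
  intro R S
  have hlift : ∀ T : Sylow p (G ⧸ N), ∃ T' : Sylow p G,
      (T : Subgroup (G ⧸ N)) = (T' : Subgroup G).map (QuotientGroup.mk' N) := by
    intro T
    obtain ⟨T', rfl⟩ := Sylow.mapSurjective_surjective (QuotientGroup.mk'_surjective N) p T
    exact ⟨T', rfl⟩
  obtain ⟨R', hR'⟩ := hlift R
  obtain ⟨S', hS'⟩ := hlift S
  rw [hR', hS', ← Subgroup.map_sup]
  exact CfsgLib.PSolvableClosure.of_surjective ((QuotientGroup.mk' N).subgroupMap _)
    ((QuotientGroup.mk' N).subgroupMap_surjective _) (hP R' S')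

/-- **Flavell's theorem.** -/
theorem isPSolvable_of_pairs : ∀ (n : ℕ) (G : Type u) [Group G] [Finite G], Nat.card G = n →
    Pairs p G → IsPSolvable p G := by
  intro n
  induction n using Nat.strong_induction_on with
  | _ n ih =>
  intro G _ _ hn hP
  classical
  have hp : p.Prime := Fact.out
  by_cases hpd : p ∣ Nat.card G
  swap
  · exact CfsgLib.SmallDegrees.isPSolvable_of_not_dvd hp hpd
  have hquot : ∀ (N : Subgroup G) [N.Normal], N ≠ ⊥ →
      ((∃ m, Nat.card N = p ^ m) ∨ (Nat.card N).Coprime p) → IsPSolvable p G := by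
    intro N _ hN hc
    refine CfsgLib.PLocal.isPSolvable_of_ker (QuotientGroup.mk' N) (QuotientGroup.mk'_surjective N)
      (by rwa [QuotientGroup.ker_mk']) (ih _ (hn ▸ CfsgLib.card_quotient_lt_of_ne_bot hN) _ rfl (hP.quotient N))
  by_contra hG
  have hO : pPrimeCore p G = ⊥ := by
    by_contra h
    exact hG (hquot _ h (Or.inr (CfsgLib.card_pPrimeCore_coprime p)))
  have hOp : pCore p G = ⊥ := by
    by_contra h
    haveI := CfsgLib.Blocks.pCore_normal' (G := G) (p := p)
    exact hG (hquot _ h (Or.inl (IsPGroup.iff_card.1 (CfsgLib.isPGroup_pCore p))))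
  obtain ⟨P⟩ := (inferInstance : Nonempty (Sylow p G))
  haveI := P.2.isNilpotent
  haveI : Nontrivial (P : Subgroup G) :=
    (Subgroup.nontrivial_iff_ne_bot _).2 (P.ne_bot_of_dvd_card hpd)
  haveI : Nontrivial (Subgroup.center (P : Subgroup G)) := P.2.center_nontrivial
  obtain ⟨⟨⟨x, hxP⟩, hxc⟩, hx1⟩ := exists_ne (1 : Subgroup.center (P : Subgroup G))
  have hx1' : x ≠ 1 := fun e => hx1 (Subtype.ext (Subtype.ext e))
  have hPx : (P : Subgroup G) ≤ Subgroup.centralizer ({x} : Set G) := fun y hy =>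
    Subgroup.mem_centralizer_singleton_iff.2 (congrArg Subtype.val (Subgroup.mem_center_iff.1 hxc ⟨y, hy⟩))
  set C := Subgroup.centralizer ({x} : Set G) with hC
  have hClt : Nat.card C < n := by
    refine hn ▸ ExtClosed.centralizer_lt fun hxZ => hx1' ?_
    haveI : (Subgroup.zpowers x).Normal := ⟨fun b hb g => by
      rw [Subgroup.mem_center_iff.1 (Subgroup.zpowers_le.2 hxZ hb) g, mul_inv_cancel_right]; exact hb⟩
    have h := CfsgLib.le_pCore (p := p) (P.2.to_le (Subgroup.zpowers_le.2 hxP))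
    rw [hOp] at h
    exact Subgroup.mem_bot.1 (h (Subgroup.mem_zpowers x))
  have hCs : IsPSolvable p C := ih _ hClt _ rfl (hP.subgroup hPx)
  -- the controlled subgroup
  set V := centGen p P with hV
  have hxV : x ∈ V := Subgroup.subset_closure ⟨hxP, P, hxP, hPx⟩
  haveI hVc : IsMulCommutative V := Subgroup.isMulCommutative_closure fun a ha b hb =>
    (commute_of_mem hP ha.2 hb.2 P.2 ha.1 hb.1).eq
  have h : Hyp p V := by
    refine ⟨P.2.to_le (centGen_le P), hVc, fun g => ?_⟩
    set S : Sylow p G := MulAut.conj g • P with hS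
    set K := (pPrimeCore p ↥((P : Subgroup G) ⊔ (S : Subgroup G))).map
      ((P : Subgroup G) ⊔ (S : Subgroup G)).subtype with hK
    have hPK : (P : Subgroup G) ≤ Subgroup.normalizer (K : Set G) :=
      le_sup_left.trans (le_normalizer_map_pPrimeCore _)
    refine ⟨K, not_dvd_map_pPrimeCore _, (centGen_le P).trans hPK, ?_, ?_⟩
    · have hle : V ≤ (K ⊔ V).comap (MulAut.conj g).toMonoidHom := by
        refine (Subgroup.closure_le _).2 fun a ha => ?_
        refine centGen_conj_le hP P S (ha.2.conj g) ?_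
        rw [hS, Sylow.pointwise_smul_def]
        exact Subgroup.smul_mem_pointwise_smul a (MulAut.conj g) _ ha.1
      exact fun a ha => hle ha
    · -- the fixed points
      set D := K ⊓ C with hD
      set O := (pPrimeCore p C).map C.subtype with hOdef
      have hDO : D ≤ O := by
        have hDp : ¬ p ∣ Nat.card (D.subgroupOf C) := fun hd => not_dvd_map_pPrimeCore _
          ((hd.trans (dvd_of_eq (Nat.card_congr (Subgroup.subgroupOfEquivOfLe inf_le_right).toEquiv))).trans
            (Subgroup.card_dvd_of_le inf_le_left))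
        have hle := le_pPrimeCore_of_sylow_le_normalizer hCs (P.subtype hPx) hDp (by
          intro r hr
          rw [Sylow.coe_subtype, Subgroup.mem_subgroupOf] at hr
          rw [Subgroup.mem_normalizer_iff]
          intro e
          exact and_congr (Subgroup.mem_normalizer_iff.1 (hPK hr) (e : G))
            (Subgroup.mem_normalizer_iff.1 (Subgroup.le_normalizer (hPx hr)) (e : G)))
        intro d hd
        exact ⟨⟨d, hd.2⟩, hle (Subgroup.mem_subgroupOf.2 hd), rfl⟩
      have hCV : Subgroup.centralizer (V : Set G) ≤ C := fun d hd =>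
        Subgroup.mem_centralizer_singleton_iff.2 (Subgroup.mem_centralizer_iff.1 hd x hxV).symm
      refine le_trans (le_inf (le_trans (inf_le_inf_left K hCV) hDO) inf_le_right) ?_
      refine le_centCore (X := O ⊓ Subgroup.centralizer (V : Set G)) (fun hd => not_dvd_map_pPrimeCore C
        (hd.trans (Subgroup.card_dvd_of_le inf_le_left))) inf_le_right ?_
      exact le_trans (le_inf (hCV.trans (le_normalizer_map_pPrimeCore C)) Subgroup.le_normalizer)
        Subgroup.inf_normalizer_le_normalizer_inf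
  have hN := normalizer_sup_pPrimeCore V h
  rw [hO, sup_bot_eq, Subgroup.normalizer_eq_top_iff] at hN
  haveI := hN
  have hle := CfsgLib.le_pCore (p := p) (h.isP)
  rw [hOp] at hle
  exact hx1' (Subgroup.mem_bot.1 (hle hxV))

end CfsgLib.PairsSylow
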