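import Cfsg.Agent.Lib.PairsSylow.Counting
import Cfsg.Agent.Lib.Blocks.Vanishing

/-!
# Controlled abelian `p`-subgroups: the numerical contradiction
-/

set_option autoImplicit false
set_option linter.style.haveILetI false

universe u

namespace CfsgLib.PairsSylow

open Cfsg CfsgLib.CharTheory CfsgLib.Blocks
open CfsgLib.ExtClosed (sharp mem_sharp sum_coe_eq card_sharp_add_one LocalFactor restSum commSum value_core restSum_lt exists_int_restSum sum_commutator_ge sum_norm sum_orth blockSq blockSq_pos dvd_blockSq weight)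
open scoped ComplexConjugate

variable {G : Type u} [Group G] [Fintype G] {p : ℕ} [Fact p.Prime] {H : Subgroup G}
  {M : Ideal AlgInt}

theorem sum_sq_eq (h : Hyp p H) (hM : IsPModular p M) :
    ∑ χ ∈ bset (principalBlock M G), restSum H χ * conj (restSum H χ) =
      ((∑ a ∈ sharp H, weight M H a : ℕ) : ℂ) := by
  classical
  simp only [restSum, map_sum, Finset.sum_mul_sum]
  rw [Finset.sum_comm, Nat.cast_sum]
  refine Finset.sum_congr rfl fun a ha => ?_
  rw [Finset.sum_comm]
  have hpa := orderOf_pow_of_mem h (mem_sharp.1 ha).1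
  rw [Finset.sum_congr rfl fun b hb => show _ = if IsConj a b then
      (blockSq M (Subgroup.centralizer ({a} : Set G)) : ℂ) else 0 from ?_]
  · rw [← Finset.sum_filter, Finset.sum_const, nsmul_eq_mul, weight, Nat.cast_mul]
  · split_ifs with hab
    · rw [← sum_norm hM hpa]
      refine Finset.sum_congr rfl fun χ _ => ?_
      obtain ⟨y, rfl⟩ := isConj_iff.1 hab
      rw [isClassFunction_char (isCharacter_of_irr χ.2) a y]
    · exact sum_orth hM hpa (orderOf_pow_of_mem h (mem_sharp.1 hb).1) hab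

/-- The inequality satisfied by the weights. -/
theorem weight_bound (h : Hyp p H) (hM : IsPModular p M) (hloc : LocalFactor p H)
    (hnc : Subgroup.normalClosure (H : Set G) = ⊤) (he2 : 2 ≤ (sharp H).card) :
    (((sharp H).card : ℝ) ^ 2 - (sharp H).card - 1) * ((∑ a ∈ sharp H, weight M H a : ℕ) : ℝ) ≤
      ((sharp H).card : ℝ) ^ 4 - ((sharp H).card : ℝ) ^ 2 - 1 := by
  classical
  choose x hxreg hxsum using pair_sum h hM hloc
  choose D hD using exists_int_restSum H
  set S := bset (principalBlock M G) with hS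
  set e : ℕ := (sharp H).card with he
  set d : IrrCharacter G → ℝ := fun χ => (charDegree (χ : G → ℂ) : ℝ) with hd
  have hd0 : ∀ χ, 0 < d χ := fun χ => Nat.cast_pos.2 (charDegree_spec' χ.2).2
  set N : ℝ := (Nat.card G : ℝ) with hN
  have hN0 : 0 < N := Nat.cast_pos.2 Nat.card_pos
  set T : IrrCharacter G → ℝ := fun χ => (∑ g : G, commSum H χ (x g)).re with hT
  have hB : ∀ χ ∈ S, χ ∈ principalBlock M G := fun χ hχ => mem_bset.1 hχ
  have heq : ∀ χ ∈ S, N * (D χ : ℝ) ^ 2 = d χ * (T χ + N * ((e : ℝ) - 1) * (D χ : ℝ)) := by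
    intro χ hχ
    have hcl := isClassFunction_char (isCharacter_of_irr χ.2)
    have h1 : ∑ g : G, ∑ a ∈ sharp H, ∑ b ∈ sharp H, (χ : G → ℂ) (a * (g * b * g⁻¹)) =
        (Nat.card G : ℂ) * ((D χ : ℂ) * (D χ : ℂ)) / (χ : G → ℂ) 1 := by
      rw [← hD χ, restSum, Finset.sum_mul_sum, Finset.mul_sum, Finset.sum_div, Finset.sum_comm]
      refine Finset.sum_congr rfl fun a _ => ?_
      rw [Finset.sum_comm, Finset.mul_sum, Finset.sum_div]
      refine Finset.sum_congr rfl fun b _ => ?_
      rw [mul_comm ((χ : G → ℂ) a), ← sum_conj_mul_char χ.2 b a]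
      refine Finset.sum_congr rfl fun g _ => ?_
      rw [← hcl (g * b * g⁻¹ * a) a]
      congr 1; group
    rw [Finset.sum_congr rfl fun g _ => (hxsum g χ (hB χ hχ)).1, Finset.sum_add_distrib,
      Finset.sum_const, Finset.card_univ, nsmul_eq_mul, ← Nat.card_eq_fintype_card, hD χ,
      (charDegree_spec' χ.2).1, eq_div_iff (Nat.cast_ne_zero.2 (charDegree_spec' χ.2).2.ne')] at h1
    have h2 := congrArg Complex.re h1
    simp [Complex.mul_re, Complex.add_re, Complex.mul_im, Complex.add_im] at h2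
    simp only [hT, hd, hN, Complex.re_sum, Nat.card_eq_fintype_card]
    linarith [h2]
  have hineq : ∀ χ ∈ S, ((e : ℝ) + 1) * N * (D χ : ℝ) ≤ (e : ℝ) * (N * d χ + T χ) := by
    intro χ hχ
    letI : Fintype H := Fintype.ofFinite _
    have hcl := isClassFunction_char (isCharacter_of_irr χ.2)
    have hq : (Fintype.card H : ℝ) = (e : ℝ) + 1 := by
      rw [← Nat.card_eq_fintype_card, ← card_sharp_add_one H, ← he]; push_cast; ring
    have hg : ∀ g : G, ((e : ℝ) + 1) * (D χ : ℝ) ≤ (e : ℝ) * (d χ + (commSum H χ (x g)).re) := by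
      intro g
      have h1 := sum_commutator_ge χ H (x g)
      rw [hq, sum_coe_eq (H := H) (fun a => ∑ b : H, (χ : G → ℂ) (a * (x g * b * (x g)⁻¹))),
        sum_coe_eq (H := H) (fun a => (χ : G → ℂ) (a * (x g * a⁻¹ * (x g)⁻¹)))] at h1
      have hin : ∀ a : G, ∑ b : H, (χ : G → ℂ) (a * (x g * b * (x g)⁻¹)) =
          (χ : G → ℂ) a + ∑ b ∈ sharp H, (χ : G → ℂ) (a * (x g * b * (x g)⁻¹)) := fun a => by
        rw [sum_coe_eq (H := H) (fun b => (χ : G → ℂ) (a * (x g * b * (x g)⁻¹)))]
        simp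
      simp only [hin] at h1
      simp only [one_mul, mul_one, mul_inv_cancel, inv_one, Finset.sum_add_distrib] at h1
      rw [(hxsum g χ (hB χ hχ)).2] at h1
      rw [show ∑ b ∈ sharp H, (χ : G → ℂ) (x g * b * (x g)⁻¹) = restSum H χ from
        Finset.sum_congr rfl fun b _ => hcl b (x g),
        show ∑ a ∈ sharp H, (χ : G → ℂ) a = restSum H χ from rfl,
        show ∑ a ∈ sharp H, (χ : G → ℂ) (a * (x g * a⁻¹ * (x g)⁻¹)) = commSum H χ (x g) from rfl,
        hD χ, (charDegree_spec' χ.2).1] at h1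
      simp [Complex.mul_re, Complex.add_re] at h1
      simp only [hd]
      linarith [h1]
    have h2 := Finset.sum_le_sum fun g (_ : g ∈ (Finset.univ : Finset G)) => hg g
    rw [Finset.sum_const, Finset.card_univ, nsmul_eq_mul, ← Nat.card_eq_fintype_card,
      ← Finset.mul_sum, Finset.sum_add_distrib, Finset.sum_const, Finset.card_univ, nsmul_eq_mul,
      ← Nat.card_eq_fintype_card, ← hN] at h2
    simp only [hT, Complex.re_sum]
    linarith [h2]
  have horth : ∑ χ ∈ S, (D χ : ℝ) * T χ = 0 := by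
    have hz : ∑ χ ∈ S, restSum H χ * ∑ g : G, commSum H χ (x g) = 0 := by
      simp only [restSum, commSum, Finset.sum_mul, Finset.mul_sum]
      rw [Finset.sum_comm]
      refine Finset.sum_eq_zero fun g _ => ?_
      rw [Finset.sum_comm]
      refine Finset.sum_eq_zero fun a ha => ?_
      rw [Finset.sum_comm]
      refine Finset.sum_eq_zero fun k hk => ?_
      rw [Finset.sum_congr rfl fun χ _ => mul_comm _ _]
      exact weak_orth hM principalBlock_isPBlock (hxreg g a ha) (dvd_orderOf_of_mem_sharp h hk)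
    have h2 := congrArg Complex.re hz
    rw [Complex.re_sum, Complex.zero_re] at h2
    rw [← h2]
    refine Finset.sum_congr rfl fun χ _ => ?_
    rw [hD χ]
    simp [hT, Complex.mul_re]
  have hsumd : ∑ χ ∈ S, d χ * (D χ : ℝ) = 0 := by
    have hz : ∑ χ ∈ S, (χ : G → ℂ) 1 * restSum H χ = 0 := by
      simp only [restSum, Finset.mul_sum]
      rw [Finset.sum_comm]
      exact Finset.sum_eq_zero fun k hk => weak_orth hM principalBlock_isPBlock
        (by simp [hM.1.ne_one]) (dvd_orderOf_of_mem_sharp h hk)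
    have h2 := congrArg Complex.re hz
    rw [Complex.re_sum, Complex.zero_re] at h2
    rw [← h2]
    refine Finset.sum_congr rfl fun χ _ => ?_
    rw [hD χ, (charDegree_spec' χ.2).1]
    simp [hd, Complex.mul_re]
  set A : ℝ := ((∑ a ∈ sharp H, weight M H a : ℕ) : ℝ) with hA
  have hsq : ∑ χ ∈ S, (D χ : ℝ) ^ 2 = A := by
    have h2 := congrArg Complex.re (sum_sq_eq h hM)
    rw [Complex.re_sum, Complex.natCast_re] at h2
    rw [hA, ← h2]
    refine Finset.sum_congr rfl fun χ _ => ?_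
    rw [hD χ]
    simp [Complex.mul_re, sq]
  -- the cubes
  have hcube : ∑ χ ∈ S, (D χ : ℝ) ^ 3 / d χ = ((e : ℝ) - 1) * A := by
    have h3 : ∀ χ ∈ S, (D χ : ℝ) ^ 3 / d χ =
        ((e : ℝ) - 1) * (D χ : ℝ) ^ 2 + (D χ : ℝ) * T χ / N := by
      intro χ hχ
      have := heq χ hχ
      have hdne := (hd0 χ).ne'
      calc (D χ : ℝ) ^ 3 / d χ = (D χ : ℝ) * (N * (D χ : ℝ) ^ 2) / (N * d χ) := by
            rw [show (D χ : ℝ) * (N * (D χ : ℝ) ^ 2) = N * (D χ : ℝ) ^ 3 by ring,
              mul_div_mul_left _ _ hN0.ne']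
        _ = (D χ : ℝ) * (d χ * (T χ + N * ((e : ℝ) - 1) * (D χ : ℝ))) / (N * d χ) := by rw [this]
        _ = (D χ : ℝ) * (T χ + N * ((e : ℝ) - 1) * (D χ : ℝ)) / N := by
            rw [show (D χ : ℝ) * (d χ * (T χ + N * ((e : ℝ) - 1) * (D χ : ℝ))) =
              ((D χ : ℝ) * (T χ + N * ((e : ℝ) - 1) * (D χ : ℝ))) * d χ by ring,
              mul_div_mul_right _ _ hdne]
        _ = _ := by rw [eq_comm, ← eq_sub_iff_add_eq', eq_comm, sub_eq_iff_eq_add', div_eq_iff hN0.ne',
              add_mul, div_mul_cancel₀ _ hN0.ne']; ring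
    rw [Finset.sum_congr rfl h3, Finset.sum_add_distrib, ← Finset.mul_sum, hsq, ← Finset.sum_div,
      horth, zero_div, add_zero]
  -- the trivial character
  have hone : oneIrr G ∈ S := mem_bset.2 (oneIrr_mem hM)
  have hd1 : d (oneIrr G) = 1 := by
    have hc := (charDegree_spec' (oneIrr G).2).1
    have h1 : ((oneIrr G : IrrCharacter G) : G → ℂ) 1 = 1 := rfl
    rw [h1] at hc
    simp only [hd]
    exact_mod_cast hc.symm
  have hD1 : (D (oneIrr G) : ℝ) = e := by
    have hc := hD (oneIrr G)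
    have h1 : restSum H (oneIrr G) = (e : ℂ) := by
      show ∑ a ∈ sharp H, (1 : ℂ) = _
      simp [he]
    rw [h1] at hc
    exact_mod_cast hc.symm
  have hbound : ∀ χ ∈ S.erase (oneIrr G),
      (e : ℝ) * ((D χ : ℝ) ^ 3 / d χ) ≤ (D χ : ℝ) ^ 2 - (if D χ < 0 then 1 else 0) := by
    intro χ hχ
    obtain ⟨hne, hχS⟩ := Finset.mem_erase.1 hχ
    have hlt : (D χ : ℝ) < (e : ℝ) * d χ := by
      have := restSum_lt H hnc hne
      rw [hD χ, Complex.intCast_re] at this
      exact this
    have hquad : 0 ≤ ((e : ℝ) * (D χ : ℝ) - d χ) * ((D χ : ℝ) - (e : ℝ) * d χ) := by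
      have h1 := hineq χ hχS
      have h2 := heq χ hχS
      refine nonneg_of_mul_nonneg_right ?_ hN0
      nlinarith [mul_le_mul_of_nonneg_left h1 (hd0 χ).le]
    have hle : (e : ℝ) * (D χ : ℝ) ≤ d χ := by
      by_contra hc
      nlinarith [mul_neg_of_pos_of_neg (sub_pos.2 (not_le.1 hc)) (sub_neg.2 hlt)]
    split_ifs with hneg
    · have h1 : (D χ : ℝ) ^ 3 / d χ ≤ 0 := by
        refine div_nonpos_of_nonpos_of_nonneg ?_ (hd0 χ).le
        have : (D χ : ℝ) ≤ 0 := by exact_mod_cast hneg.le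
        nlinarith [sq_nonneg (D χ : ℝ)]
      have h2 : (1 : ℝ) ≤ (D χ : ℝ) ^ 2 := by
        have : (D χ : ℝ) ≤ -1 := by exact_mod_cast (by omega : D χ ≤ -1)
        nlinarith
      nlinarith [mul_nonpos_of_nonneg_of_nonpos (Nat.cast_nonneg e) h1]
    · rw [mul_div, div_le_iff₀ (hd0 χ), sub_zero]
      nlinarith [mul_le_mul_of_nonneg_left hle (sq_nonneg (D χ : ℝ))]
  have hexneg : ∃ ν ∈ S.erase (oneIrr G), D ν < 0 := by
    by_contra hc
    push_neg at hc
    rw [← Finset.add_sum_erase _ _ hone, hd1, hD1, one_mul] at hsumd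
    have : 0 ≤ ∑ χ ∈ S.erase (oneIrr G), d χ * (D χ : ℝ) :=
      Finset.sum_nonneg fun χ hχ => mul_nonneg (hd0 χ).le (by exact_mod_cast hc χ hχ)
    have : (2 : ℝ) ≤ e := by exact_mod_cast he2
    linarith
  obtain ⟨ν, hν, hνneg⟩ := hexneg
  have hcnt : (1 : ℝ) ≤ ∑ χ ∈ S.erase (oneIrr G), (if D χ < 0 then (1 : ℝ) else 0) :=
    le_trans (le_of_eq (if_pos hνneg).symm) (Finset.single_le_sum
      (f := fun χ => if D χ < 0 then (1 : ℝ) else 0) (fun χ _ => by split_ifs <;> norm_num) hν)
  have htot := Finset.sum_le_sum hbound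
  rw [← Finset.mul_sum, Finset.sum_sub_distrib] at htot
  rw [← Finset.add_sum_erase _ _ hone, hd1, hD1, div_one] at hcube
  rw [← Finset.add_sum_erase _ _ hone, hD1] at hsq
  nlinarith [htot, hcnt, hcube, hsq]

/-- The principal block contradiction. -/
theorem false_of_local (h : Hyp p H) (hO : pPrimeCore p G = ⊥)
    (hnc : Subgroup.normalClosure (H : Set G) = ⊤) (hne : H ≠ ⊤) (hq : 3 ≤ Nat.card H)
    (hloc : LocalFactor p H) : False := by
  classical
  have hp : p.Prime := Fact.out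
  obtain ⟨M, hM⟩ := exists_isPModular hp
  set e := (sharp H).card with he
  have hqe : e + 1 = Nat.card H := card_sharp_add_one H
  have hwb := weight_bound h hM hloc hnc (by omega)
  rw [← he] at hwb
  have hblock : ∀ a ∈ sharp H, ∃ j : ℕ, 0 < j ∧
      blockSq M (Subgroup.centralizer ({a} : Set G)) = (e + 1) * j := by
    intro a ha
    obtain ⟨j, hj⟩ := dvd_blockSq hM h.isP (fun b hb =>
      Subgroup.mem_centralizer_singleton_iff.2 (h.mul_comm hb (mem_sharp.1 ha).1) :
        H ≤ Subgroup.centralizer ({a} : Set G))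
    refine ⟨j, Nat.pos_of_ne_zero fun j0 => ?_, hqe ▸ hj⟩
    rw [j0, mul_zero] at hj
    exact (blockSq_pos hM _).ne' hj
  have hm : ∀ a ∈ sharp H, 1 ≤ ((sharp H).filter fun b => IsConj a b).card := fun a ha =>
    Finset.card_pos.2 ⟨a, Finset.mem_filter.2 ⟨ha, IsConj.refl a⟩⟩
  have hw : ∀ a ∈ sharp H, e + 1 ≤ weight M H a := by
    intro a ha
    obtain ⟨j, hj, hjb⟩ := hblock a ha
    have : weight M H a = ((sharp H).filter fun b => IsConj a b).card *
        ((e + 1) * j) := by rw [← hjb, weight]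
    rw [this]
    exact le_trans (le_of_eq (one_mul _).symm)
      (Nat.mul_le_mul (hm a ha) (Nat.le_mul_of_pos_right _ hj))
  by_cases hbig : ∃ a ∈ sharp H, 2 * (e + 1) ≤ weight M H a
  · obtain ⟨a, ha, hab⟩ := hbig
    rcases Nat.lt_or_ge e 3 with he3 | he3
    · -- `H` of order three
      have he2 : e = 2 := by omega
      obtain ⟨haH, ha1⟩ := mem_sharp.1 ha
      have ha' : a⁻¹ ∈ sharp H := mem_sharp.2 ⟨H.inv_mem haH, inv_ne_one.2 ha1⟩
      have hne' : a⁻¹ ≠ a := fun e' => by
        have h3 : a ^ 3 = 1 := orderOf_dvd_iff_pow_eq_one.1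
          ((Subgroup.orderOf_dvd_natCard H haH).trans (dvd_of_eq (by omega)))
        have h2 : a * a = 1 := by
          have := mul_inv_cancel a; rwa [e'] at this
        exact ha1 (by rwa [pow_succ, pow_two, h2, one_mul] at h3)
      have hweq : weight M H a⁻¹ = weight M H a := by
        have hC : Subgroup.centralizer ({a⁻¹} : Set G) = Subgroup.centralizer ({a} : Set G) := by
          ext y
          simp only [Subgroup.mem_centralizer_singleton_iff]
          exact Commute.inv_right_iff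
        rw [weight, weight, hC]
        congr 1
        refine Finset.card_bij (fun b _ => b⁻¹) (fun b hb => ?_) (fun b _ c _ hbc => inv_injective hbc)
          (fun b hb => ⟨b⁻¹, ?_, inv_inv b⟩)
        · obtain ⟨hb, hcb⟩ := Finset.mem_filter.1 hb
          obtain ⟨y, hy⟩ := isConj_iff.1 hcb
          refine Finset.mem_filter.2 ⟨mem_sharp.2 ⟨H.inv_mem (mem_sharp.1 hb).1,
            inv_ne_one.2 (mem_sharp.1 hb).2⟩, isConj_iff.2 ⟨y, ?_⟩⟩
          rw [← hy]; group
        · obtain ⟨hb, hcb⟩ := Finset.mem_filter.1 hb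
          obtain ⟨y, hy⟩ := isConj_iff.1 hcb
          refine Finset.mem_filter.2 ⟨mem_sharp.2 ⟨H.inv_mem (mem_sharp.1 hb).1,
            inv_ne_one.2 (mem_sharp.1 hb).2⟩, isConj_iff.2 ⟨y, ?_⟩⟩
          rw [← hy]; group
      have hsum : 2 * weight M H a ≤ ∑ b ∈ sharp H, weight M H b := by
        refine le_trans (le_of_eq ?_)
          (Finset.sum_le_sum_of_subset (Finset.insert_subset ha' (Finset.singleton_subset_iff.2 ha)))
        rw [Finset.sum_insert (by simpa using hne'), Finset.sum_singleton, hweq]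
        ring
      have hS : (12 : ℕ) ≤ ∑ b ∈ sharp H, weight M H b := by omega
      have hS' : (12 : ℝ) ≤ ((∑ b ∈ sharp H, weight M H b : ℕ) : ℝ) := by exact_mod_cast hS
      rw [he2] at hwb
      norm_num at hwb hS'
      linarith
    · have hsum : (e + 1) * (e + 1) ≤ ∑ b ∈ sharp H, weight M H b := by
        rw [← Finset.add_sum_erase _ _ ha]
        have h1 : ((sharp H).erase a).card • (e + 1) ≤ ∑ b ∈ (sharp H).erase a, weight M H b :=
          Finset.card_nsmul_le_sum _ _ _ fun b hb => hw b (Finset.mem_of_mem_erase hb)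
        rw [smul_eq_mul, Finset.card_erase_of_mem ha, ← he] at h1
        have h2 : (e - 1) * (e + 1) + 2 * (e + 1) = (e + 1) * (e + 1) := by
          rw [← add_mul]; congr 1; omega
        omega
      have hR : ((e : ℝ) + 1) * ((e : ℝ) + 1) ≤ ((∑ b ∈ sharp H, weight M H b : ℕ) : ℝ) := by
        exact_mod_cast hsum
      have h3 : (3 : ℝ) ≤ e := by exact_mod_cast he3
      have hc : (0 : ℝ) ≤ (e : ℝ) ^ 2 - e - 1 := by nlinarith
      nlinarith [mul_le_mul_of_nonneg_left hR hc]
  push_neg at hbig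
  have huniq : ∀ a ∈ sharp H, blockSq M (Subgroup.centralizer ({a} : Set G)) = e + 1 ∧
      ∀ b ∈ sharp H, IsConj a b → b = a := by
    intro a ha
    obtain ⟨j, hj, hjb⟩ := hblock a ha
    have hlt := hbig a ha
    have hwa : weight M H a = ((sharp H).filter fun b => IsConj a b).card *
        ((e + 1) * j) := by rw [← hjb, weight]
    rw [hwa] at hlt
    have h1 : ((sharp H).filter fun b => IsConj a b).card * j < 2 := by
      by_contra hc
      push_neg at hc
      have := Nat.mul_le_mul_left (e + 1) hc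
      nlinarith
    have hj1 : j = 1 := by nlinarith [hm a ha]
    refine ⟨by rw [hjb, hj1, mul_one], fun b hb hab => ?_⟩
    refine Finset.card_le_one.1 (?_ : ((sharp H).filter fun b => IsConj a b).card ≤ 1) b
      (Finset.mem_filter.2 ⟨hb, hab⟩) a (Finset.mem_filter.2 ⟨ha, IsConj.refl a⟩)
    rw [hj1, mul_one] at h1
    omega
  -- `H` is a Sylow subgroup
  obtain ⟨P, hP⟩ := h.isP.exists_le_sylow
  haveI hHn : (H.subgroupOf (P : Subgroup G)).Normal :=
    Subgroup.normal_subgroupOf_iff_le_normalizer hP |>.2 (h.le_normalizer_of_isPGroup P.2 hP)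
  haveI := P.2.isNilpotent
  have hHne : H.subgroupOf (P : Subgroup G) ≠ ⊥ := fun e' => by
    rw [Subgroup.subgroupOf_eq_bot, disjoint_iff, inf_eq_left.2 hP] at e'
    rw [e', Subgroup.card_bot] at hq
    omega
  obtain ⟨⟨z, hz⟩, hz1⟩ := Subgroup.ne_bot_iff_exists_ne_one.1
    (CfsgLib.inf_center_ne_bot_of_nilpotent hHne)
  have hzs : (z : G) ∈ sharp H := mem_sharp.2 ⟨Subgroup.mem_subgroupOf.1 hz.1, fun e' =>
    hz1 (Subtype.ext (Subtype.ext e'))⟩
  have hPC : (P : Subgroup G) ≤ Subgroup.centralizer ({(z : G)} : Set G) := fun y hy =>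
    Subgroup.mem_centralizer_singleton_iff.2
      (congrArg Subtype.val (Subgroup.mem_center_iff.1 hz.2 ⟨y, hy⟩))
  have hPeq : (P : Subgroup G) = H := by
    refine (Subgroup.eq_of_le_of_card_ge hP (Nat.le_of_dvd Nat.card_pos ?_)).symm
    have := dvd_blockSq hM P.2 hPC
    rwa [(huniq _ hzs).1, hqe] at this
  have hburn : Subgroup.normalizer ((P : Subgroup G) : Set G) ≤
      Subgroup.centralizer ((P : Subgroup G) : Set G) := by
    rw [hPeq]
    intro n hn
    rw [Subgroup.mem_centralizer_iff]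
    intro a ha
    rcases eq_or_ne a 1 with rfl | ha1
    · simp
    have has : a ∈ sharp H := mem_sharp.2 ⟨ha, ha1⟩
    have := (huniq a has).2 (n * a * n⁻¹)
      (mem_sharp.2 ⟨(Subgroup.mem_normalizer_iff.1 hn a).1 ha, fun e' => ha1 (by simpa using e')⟩)
      (isConj_iff.2 ⟨n, rfl⟩)
    rw [mul_inv_eq_iff_eq_mul] at this
    exact this.symm
  obtain ⟨K, hKn, hcompl⟩ : ∃ K : Subgroup G, K.Normal ∧ K.IsComplement' (P : Subgroup G) :=
    ⟨_, MonoidHom.normal_ker _, MonoidHom.ker_transferSylow_isComplement' P hburn⟩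
  haveI := hKn
  have hK : K = ⊥ := eq_bot_iff.2 ((CfsgLib.le_pPrimeCore
    (by rw [← hcompl.index_eq_card]; exact (hp.coprime_iff_not_dvd.2 P.not_dvd_index).symm)).trans_eq hO)
  have hPtop : (P : Subgroup G) = ⊤ := by
    rw [hK] at hcompl
    exact Subgroup.isComplement'_bot_left.1 hcompl
  exact hne (hPeq ▸ hPtop)

end CfsgLib.PairsSylow
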