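import Cfsg.Agent.Lib.PairsSylow.Weak

/-!
# Controlled abelian `p`-subgroups: values and sums in the principal block
-/

set_option autoImplicit false
set_option linter.style.haveILetI false

universe u

namespace CfsgLib.PairsSylow

open Cfsg CfsgLib.CharTheory CfsgLib.Blocks
open CfsgLib.ExtClosed (sharp mem_sharp sum_coe_eq card_sharp_add_one LocalFactor restSum commSum value_core restSum_lt exists_int_restSum sum_commutator_ge sum_norm sum_orth blockSq blockSq_pos dvd_blockSq weight)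
open scoped ComplexConjugate commutatorElement

variable {G : Type u} [Group G] [Fintype G] {p : ℕ} [Fact p.Prime] {H : Subgroup G}
  {M : Ideal AlgInt}

theorem orderOf_pow_of_mem (h : Hyp p H) {a : G} (ha : a ∈ H) : ∃ k : ℕ, orderOf a = p ^ k := by
  obtain ⟨k, hk⟩ := IsPGroup.iff_orderOf.1 h.isP ⟨a, ha⟩
  exact ⟨k, by rwa [Subgroup.orderOf_mk] at hk⟩

theorem dvd_orderOf_of_mem_sharp (h : Hyp p H) {a : G} (ha : a ∈ sharp H) : p ∣ orderOf a := by
  obtain ⟨k, hk⟩ := orderOf_pow_of_mem h (mem_sharp.1 ha).1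
  rw [hk]
  exact dvd_pow_self p fun e => (mem_sharp.1 ha).2 (orderOf_eq_one_iff.1 (by rw [hk, e, pow_zero]))

/-- The values of the principal block on products of an element and a conjugate. -/
theorem value_pair (h : Hyp p H) (hM : IsPModular p M) (hloc : LocalFactor p H)
    {χ : IrrCharacter G} (hχ : χ ∈ principalBlock M G) {K : Subgroup G}
    (hKp : ¬ p ∣ Nat.card K) (hHK : H ≤ Subgroup.normalizer (K : Set G))
    (hKC : K ⊓ Subgroup.centralizer (H : Set G) ≤ centCore p H) {v c : G} (hv : v ∈ H) (hv1 : v ≠ 1)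
    (hc : c ∈ K) (hvc : Commute v c) : (χ : G → ℂ) (v * c) = (χ : G → ℂ) v := by
  have hp : p.Prime := Fact.out
  set C := Subgroup.centralizer ({v} : Set G) with hC
  set O := (pPrimeCore p C).map C.subtype with hO
  have hHC : H ≤ C := fun a ha => Subgroup.mem_centralizer_singleton_iff.2 (h.mul_comm ha hv)
  have hOn : C ≤ Subgroup.normalizer (O : Set G) := by
    have := Subgroup.le_normalizer_map (H := pPrimeCore p C) C.subtype
    rwa [Subgroup.normalizer_eq_top, ← MonoidHom.range_eq_map, Subgroup.range_subtype] at this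
  have hOC : O ≤ C := Subgroup.map_subtype_le _
  have hCC : Subgroup.centralizer (H : Set G) ≤ C := fun d hd =>
    Subgroup.mem_centralizer_singleton_iff.2 (Subgroup.mem_centralizer_iff.1 hd v hv).symm
  -- every element of `C` is the product of an element of `N(H)` and an element of `O`
  have hfac : ∀ d ∈ C, ∃ n : G, n ∈ Subgroup.normalizer (H : Set G) ∧ n ∈ C ∧ ∃ o ∈ O, d = n * o := by
    intro d hd
    have hdtop : (⟨d, hd⟩ : C) ∈ Subgroup.normalizer
        ((H.subgroupOf C : Subgroup C) : Set C) ⊔ pPrimeCore p C :=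
      (hloc v hv hv1).symm ▸ Subgroup.mem_top _
    obtain ⟨n, hn, o, ho, e⟩ := Subgroup.mem_sup_of_normal_right.1 hdtop
    exact ⟨n, ExtClosed.mem_normalizer_of_conj_mem fun b hb => Subgroup.mem_subgroupOf.1
      ((Subgroup.mem_normalizer_iff.1 hn ⟨b, hHC hb⟩).1 (Subgroup.mem_subgroupOf.2 hb)), n.2, o,
      ⟨o, ho, rfl⟩, (congrArg Subtype.val e).symm⟩
  have hcore : centCore p H ≤ O := by
    set Y := centCore p H with hY
    have hYC : Y ≤ C := centCore_le_centralizer.trans hCC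
    set X := Y ⊔ O with hX
    have hXC : X ≤ C := sup_le hYC hOC
    have hXn : C ≤ Subgroup.normalizer (X : Set G) := by
      have hle : ∀ d ∈ C, ∀ y ∈ X, d * y * d⁻¹ ∈ X := by
        intro d hd y hy
        obtain ⟨n, hn, hnC, o, ho, rfl⟩ := hfac d hd
        obtain ⟨q, hq, w, hw, rfl⟩ :=
          CfsgLib.mem_sup_of_le_normalizer (hYC.trans hOn) (show y ∈ O ⊔ Y by rwa [sup_comm])
        rw [show n * o * (q * w) * (n * o)⁻¹ =
          (n * (o * q * (w * o⁻¹ * w⁻¹)) * n⁻¹) * (n * w * n⁻¹) by group]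
        refine X.mul_mem (Subgroup.mem_sup_right ((Subgroup.mem_normalizer_iff.1 (hOn hnC) _).1 ?_))
          (Subgroup.mem_sup_left (conj_mem_centCore hn hw))
        exact O.mul_mem (O.mul_mem ho hq)
          ((Subgroup.mem_normalizer_iff.1 (hOn (hYC hw)) _).1 (O.inv_mem ho))
      intro d hd
      rw [Subgroup.mem_normalizer_iff]
      refine fun y => ⟨hle d hd y, fun hy => ?_⟩
      have := hle d⁻¹ (inv_mem hd) _ hy
      simpa [mul_assoc] using this
    haveI : (X.subgroupOf C).Normal := Subgroup.normal_subgroupOf_iff_le_normalizer hXC |>.2 hXn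
    have hXp : ¬ p ∣ Nat.card X := fun hd => by
      obtain ⟨⟨z, hz⟩, hzo⟩ := exists_prime_orderOf_dvd_card' p hd
      rw [Subgroup.orderOf_mk] at hzo
      obtain ⟨q, hq, w, hw, e⟩ :=
        CfsgLib.mem_sup_of_le_normalizer (hYC.trans hOn) (show z ∈ O ⊔ Y by rwa [sup_comm])
      have hOp : ¬ p ∣ Nat.card O := by
        rw [hO, Subgroup.card_map_of_injective C.subtype_injective]
        exact CfsgLib.not_dvd_card_pPrimeCore hp
      have hpow : ∀ k : ℕ, (q * w) ^ k * (w ^ k)⁻¹ ∈ O := by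
        intro k
        induction k with
        | zero => simp
        | succ k ih =>
          rw [show (q * w) ^ (k + 1) * (w ^ (k + 1))⁻¹ =
            q * (w * ((q * w) ^ k * (w ^ k)⁻¹) * w⁻¹) by rw [pow_succ', pow_succ']; group]
          exact O.mul_mem hq ((Subgroup.mem_normalizer_iff.1 (hOn (hYC hw)) _).1 ih)
      have h1 := hpow (Nat.card Y)
      rw [e, show w ^ Nat.card Y = 1 from orderOf_dvd_iff_pow_eq_one.1 (Subgroup.orderOf_dvd_natCard Y hw),
        inv_one, mul_one] at h1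
      have h2 : z ^ (Nat.card Y * Nat.card O) = 1 := by
        rw [pow_mul]
        exact orderOf_dvd_iff_pow_eq_one.1 (Subgroup.orderOf_dvd_natCard O h1)
      have h3 := orderOf_dvd_of_pow_eq_one h2
      rw [hzo] at h3
      rcases hp.dvd_mul.1 h3 with h4 | h4
      · exact not_dvd_card_centCore h4
      · exact hOp h4
    have hXle := CfsgLib.le_pPrimeCore (p := p) (N := X.subgroupOf C) (by
      rw [Nat.card_congr (Subgroup.subgroupOfEquivOfLe hXC).toEquiv]
      exact (hp.coprime_iff_not_dvd.2 hXp).symm)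
    intro y hy
    exact ⟨⟨y, hXC (Subgroup.mem_sup_left hy)⟩,
      hXle (Subgroup.mem_subgroupOf.2 (Subgroup.mem_sup_left hy)), rfl⟩
  refine value_core hM hχ (orderOf_pow_of_mem h hv) ?_
  have hKC' : H ≤ Subgroup.normalizer ((K ⊓ C : Subgroup G) : Set G) :=
    le_trans (le_inf hHK (hHC.trans Subgroup.le_normalizer)) Subgroup.inf_normalizer_le_normalizer_inf
  have hKCp : ¬ p ∣ Nat.card (K ⊓ C : Subgroup G) := fun hd =>
    hKp (hd.trans (Subgroup.card_dvd_of_le inf_le_left))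
  have hle : K ⊓ C ≤ O := by
    conv_lhs => rw [← CfsgLib.coprime_commutator_sup hKC' (h.coprime_card hKCp) (Or.inl h.solvable)]
    refine sup_le (Subgroup.commutator_le.2 fun d hd b hb => ?_) fun d hd => hcore (hKC ⟨hd.1.1, hd.2⟩)
    have hdK : ⁅d, b⁆ ∈ K := (CfsgLib.commutator_le_of_le_normalizer hKC'
      (Subgroup.commutator_mem_commutator hd hb)).1
    refine ExtClosed.mem_of_pPrime_mem_sup h.isP (hHC.trans hOn) ?_ fun hdiv =>
      hKp (hdiv.trans (Subgroup.orderOf_dvd_natCard K hdK))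
    obtain ⟨n, hn, hnC, o, ho, rfl⟩ := hfac d hd.2
    have hnb : n * b * n⁻¹ ∈ H := (Subgroup.mem_normalizer_iff.1 hn b).1 hb
    have hq : o * b * o⁻¹ * b⁻¹ ∈ O := by
      rw [show o * b * o⁻¹ * b⁻¹ = o * (b * o⁻¹ * b⁻¹) by group]
      exact O.mul_mem ho ((Subgroup.mem_normalizer_iff.1 (hOn (hHC hb)) _).1 (O.inv_mem ho))
    rw [commutatorElement_def, show (n * o) * b * (n * o)⁻¹ * b⁻¹ =
      (n * (o * b * o⁻¹ * b⁻¹) * n⁻¹) * (n * b * n⁻¹) * b⁻¹ by group]
    exact mul_mem (mul_mem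
      (Subgroup.mem_sup_right ((Subgroup.mem_normalizer_iff.1 (hOn hnC) _).1 hq))
      (Subgroup.mem_sup_left hnb)) (Subgroup.mem_sup_left (H.inv_mem hb))
  exact hle ⟨hc, Subgroup.mem_centralizer_singleton_iff.2 hvc.symm.eq⟩

/-- Splitting of the double sum at a translate. -/
theorem pair_sum (h : Hyp p H) (hM : IsPModular p M) (hloc : LocalFactor p H) (g : G) :
    ∃ x : G, (∀ a ∈ sharp H, ¬ p ∣ orderOf (a * (x * a⁻¹ * x⁻¹))) ∧
      ∀ χ : IrrCharacter G, χ ∈ principalBlock M G →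
        (∑ a ∈ sharp H, ∑ b ∈ sharp H, (χ : G → ℂ) (a * (g * b * g⁻¹)) =
          commSum H χ x + ((sharp H).card - 1) * restSum H χ) ∧
        (∑ a ∈ sharp H, ∑ b ∈ sharp H, (χ : G → ℂ) (a * (x * b * x⁻¹)) =
          commSum H χ x + ((sharp H).card - 1) * restSum H χ) := by
  classical
  obtain ⟨x, hx, hpair⟩ := h.pair_product g
  refine ⟨x, fun a ha => (hpair a (mem_sharp.1 ha).1 _ (H.inv_mem (mem_sharp.1 ha).1)).1
    (mul_inv_cancel a), fun χ hχ => ?_⟩
  have hcl := isClassFunction_char (isCharacter_of_irr χ.2)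
  have himg : (sharp H).image (fun b => g⁻¹ * (x * b * x⁻¹) * g) = sharp H := by
    refine Finset.eq_of_subset_of_card_le (fun y hy => ?_) (le_of_eq ?_)
    · obtain ⟨b, hb, rfl⟩ := Finset.mem_image.1 hy
      obtain ⟨hbH, hb1⟩ := mem_sharp.1 hb
      obtain ⟨k, hk, hke⟩ := hx b hbH
      have e : g⁻¹ * (x * b * x⁻¹) * g = k := by rw [← hke]; group
      rw [e]
      refine mem_sharp.2 ⟨hk, fun k1 => hb1 ?_⟩
      rw [k1, mul_one, mul_inv_cancel, eq_comm, mul_inv_eq_one] at hke
      simpa using hke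
    · rw [Finset.card_image_of_injective]
      intro a b hab
      simpa using hab
  have hsum : ∀ a : G, ∑ b ∈ sharp H, (χ : G → ℂ) (a * (g * b * g⁻¹)) =
      ∑ b ∈ sharp H, (χ : G → ℂ) (a * (x * b * x⁻¹)) := fun a => by
    conv_lhs => rw [← himg]
    rw [Finset.sum_image fun b _ c _ hbc => by simpa using hbc]
    refine Finset.sum_congr rfl fun b _ => ?_
    congr 1; group
  have hmain : ∑ a ∈ sharp H, ∑ b ∈ sharp H, (χ : G → ℂ) (a * (x * b * x⁻¹)) =
      commSum H χ x + ((sharp H).card - 1) * restSum H χ := by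
    have hrow : ∀ a ∈ sharp H, ∑ b ∈ sharp H, (χ : G → ℂ) (a * (x * b * x⁻¹)) =
        (χ : G → ℂ) (a * (x * a⁻¹ * x⁻¹)) + (restSum H χ - (χ : G → ℂ) a) := by
      intro a ha
      obtain ⟨haH, ha1⟩ := mem_sharp.1 ha
      have hinv : a⁻¹ ∈ sharp H := mem_sharp.2 ⟨H.inv_mem haH, inv_ne_one.2 ha1⟩
      rw [← Finset.add_sum_erase _ _ hinv]
      congr 1
      rw [restSum, ← Finset.sum_erase_eq_sub ha]
      refine Finset.sum_nbij' (a * ·) (a⁻¹ * ·) (fun b hb => ?_) (fun b hb => ?_)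
        (fun b _ => by simp) (fun b _ => by simp) (fun b hb => ?_)
      · obtain ⟨hb1, hb2⟩ := Finset.mem_erase.1 hb
        obtain ⟨hbH, hbne⟩ := mem_sharp.1 hb2
        refine Finset.mem_erase.2 ⟨fun e => hbne (by simpa using e), mem_sharp.2
          ⟨H.mul_mem haH hbH, fun e => hb1 (eq_inv_of_mul_eq_one_right e)⟩⟩
      · obtain ⟨hb1, hb2⟩ := Finset.mem_erase.1 hb
        obtain ⟨hbH, hbne⟩ := mem_sharp.1 hb2
        refine Finset.mem_erase.2 ⟨fun e => hbne (by simpa using e), mem_sharp.2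
          ⟨H.mul_mem (H.inv_mem haH) hbH, fun e => hb1 ?_⟩⟩
        exact (inv_mul_eq_one.1 e).symm
      · obtain ⟨hb1, hb2⟩ := Finset.mem_erase.1 hb
        obtain ⟨hbH, hbne⟩ := mem_sharp.1 hb2
        have hab : a * b ≠ 1 := fun e => hb1 (eq_inv_of_mul_eq_one_right e)
        obtain ⟨-, K, hKp, hHK, hKC, c, hc, hcom, y, hy⟩ := (hpair a haH b hbH).2 hab
        rw [← hcl (a * (x * b * x⁻¹)) y, hy]
        exact value_pair h hM hloc hχ hKp hHK hKC (H.mul_mem haH hbH) hab hc hcom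
    rw [Finset.sum_congr rfl hrow, Finset.sum_add_distrib, Finset.sum_sub_distrib, Finset.sum_const,
      nsmul_eq_mul, commSum, restSum]
    ring
  exact ⟨by rw [Finset.sum_congr rfl fun a _ => hsum a, hmain], hmain⟩

end CfsgLib.PairsSylow
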