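import Cfsg.Agent.Lib.PairsSylow.Bound
import Cfsg.Agent.Lib.ExtremelyClosed.Factor
import Cfsg.Agent.Lib.ZStar.Main
import Cfsg.Agent.Lib.PRegularClass

/-!
# Controlled abelian `p`-subgroups: the factorization
-/

set_option autoImplicit false
set_option linter.style.haveILetI false

universe u

namespace CfsgLib.PairsSylow

open Cfsg

variable {p : ℕ} [Fact p.Prime]

/-- **Controlled abelian `p`-subgroups factorize the group.** -/
theorem factor : ∀ (n : ℕ) (G : Type u) [Group G] [Finite G], Nat.card G = n →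
    ∀ (H : Subgroup G), Hyp p H →
      Subgroup.normalizer (H : Set G) ⊔ pPrimeCore p G = ⊤ := by
  intro n
  induction n using Nat.strong_induction_on with
  | _ n ih => ?_
  intro G _ _ hn H h
  classical
  have hp : p.Prime := Fact.out
  by_cases hO : pPrimeCore p G = ⊥
  swap
  · -- pass to the quotient by the core
    have hlt : Nat.card (G ⧸ pPrimeCore p G) < n := hn ▸ CfsgLib.card_quotient_lt_of_ne_bot hO
    have hN := h.comap_normalizer_le (pPrimeCore p G) (CfsgLib.not_dvd_card_pPrimeCore hp)
    have hq := ih _ hlt _ rfl _ (h.map (pPrimeCore p G) hN)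
    rw [CfsgLib.pPrimeCore_quotient_eq_bot, sup_bot_eq] at hq
    rw [hq, Subgroup.comap_top] at hN
    exact top_le_iff.1 hN
  rw [hO, sup_bot_eq]
  by_contra hne
  have hH1 : H ≠ ⊥ := fun e => hne (by rw [e]; exact Subgroup.normalizer_eq_top ⊥)
  have hHtop : H ≠ ⊤ := fun e => hne (by rw [e]; exact Subgroup.normalizer_eq_top ⊤)
  -- no nontrivial element is central
  have hcen : ∀ a ∈ H, a ≠ 1 → a ∉ Subgroup.center G := by
    intro a ha ha1 hac
    set Z := Subgroup.zpowers a with hZ
    have hZH : Z ≤ H := Subgroup.zpowers_le.2 ha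
    have hZc : Z ≤ Subgroup.center G := Subgroup.zpowers_le.2 hac
    haveI : Z.Normal := ⟨fun b hb g => by
      rw [Subgroup.mem_center_iff.1 (hZc hb) g, mul_inv_cancel_right]; exact hb⟩
    have hZ1 : Z ≠ ⊥ := fun e => ha1 (Subgroup.zpowers_eq_bot.1 e)
    have hlt : Nat.card (G ⧸ Z) < n := hn ▸ CfsgLib.card_quotient_lt_of_ne_bot hZ1
    have hN : (Subgroup.normalizer ((H.map (QuotientGroup.mk' Z) : Subgroup (G ⧸ Z)) : Set (G ⧸ Z))).comap
        (QuotientGroup.mk' Z) ≤ Subgroup.normalizer (H : Set G) ⊔ Z := by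
      intro g hg
      refine Subgroup.mem_sup_left (ExtClosed.mem_normalizer_of_conj_mem fun b hb => ?_)
      have hmem : QuotientGroup.mk' Z (g * b * g⁻¹) ∈ H.map (QuotientGroup.mk' Z) := by
        rw [map_mul, map_mul, map_inv]
        exact (Subgroup.mem_normalizer_iff.1 hg _).1 ⟨b, hb, rfl⟩
      rwa [← Subgroup.mem_comap, Subgroup.comap_map_eq, QuotientGroup.ker_mk', sup_eq_left.2 hZH] at hmem
    have hq := ih _ hlt _ rfl _ (h.map Z hN)
    rw [ExtClosed.pPrimeCore_quotient_central Z (h.isP.to_le hZH) hZc hO, sup_bot_eq] at hq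
    refine hne ?_
    rw [hq, Subgroup.comap_top, sup_eq_left.2 (hZH.trans Subgroup.le_normalizer)] at hN
    exact top_le_iff.1 hN
  -- the normal closure is everything
  have hnc : Subgroup.normalClosure (H : Set G) = ⊤ := by
    by_contra hR
    set R := Subgroup.normalClosure (H : Set G) with hRdef
    have hHR : H ≤ R := Subgroup.le_normalClosure
    have hlt : Nat.card R < n := hn ▸ lt_of_le_of_ne (Subgroup.card_le_card_group _)
      fun e => hR (Subgroup.eq_top_of_card_eq _ e)
    have hq := ih _ hlt _ rfl _ (h.subgroupOf hHR)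
    have hbot : pPrimeCore p R = ⊥ := by
      have := eq_bot_iff.2 ((CfsgLib.map_pPrimeCore_le p R).trans_eq hO)
      rwa [Subgroup.map_eq_bot_iff_of_injective _ R.subtype_injective] at this
    rw [hbot, sup_bot_eq] at hq
    refine hne (eq_top_iff.2 fun g _ => ExtClosed.mem_normalizer_of_conj_mem fun a ha =>
      h.conj_eq_of_le_normalizer (fun b hb => ?_) ha)
    have hbR : g * b * g⁻¹ ∈ R := Subgroup.normalClosure_normal.conj_mem b (hHR hb) g
    refine ExtClosed.mem_normalizer_of_conj_mem fun c hc => ?_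
    have hmem : (⟨g * b * g⁻¹, hbR⟩ : R) ∈
        Subgroup.normalizer ((H.subgroupOf R : Subgroup R) : Set R) := hq.symm ▸ Subgroup.mem_top _
    exact Subgroup.mem_subgroupOf.1
      ((Subgroup.mem_normalizer_iff.1 hmem ⟨c, hHR hc⟩).1 (Subgroup.mem_subgroupOf.2 hc))
  obtain ⟨a, ha, ha1⟩ := (Subgroup.bot_or_exists_ne_one H).resolve_left hH1
  rcases Nat.lt_or_ge (Nat.card H) 3 with hq | hq
  · -- an isolated involution
    have hq1 : 1 < Nat.card H := (Subgroup.one_lt_card_iff_ne_bot H).2 hH1
    have hq2 : Nat.card H = 2 := by omega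
    have hp2 : p = 2 := by
      obtain ⟨k, hk⟩ := IsPGroup.iff_card.1 h.isP
      have hdvd : p ∣ 2 := by
        rw [← hq2, hk]
        exact dvd_pow_self p fun e => by rw [hk, e, pow_zero] at hq1; exact lt_irrefl _ hq1
      exact (Nat.prime_dvd_prime_iff_eq hp Nat.prime_two).1 hdvd
    subst hp2
    have hord : orderOf a = 2 := by
      rcases (Nat.dvd_prime Nat.prime_two).1 ((Subgroup.orderOf_dvd_natCard H ha).trans (dvd_of_eq hq2))
        with e | e
      · exact absurd (orderOf_eq_one_iff.1 e) ha1
      · exact e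
    have hall : ∀ b ∈ H, b = 1 ∨ b = a := by
      intro b hb
      by_contra hc
      push_neg at hc
      have hsub : ({1, a, b} : Finset G).card ≤ 2 := by
        rw [← hq2, ← SetLike.coe_sort_coe, Nat.card_coe_set_eq, ← Set.ncard_coe_finset]
        refine Set.ncard_le_ncard (fun y hy => ?_) (Set.toFinite _)
        simp at hy
        rcases hy with rfl | rfl | rfl
        · exact H.one_mem
        · exact ha
        · exact hb
      rw [Finset.card_eq_three.2 ⟨1, a, b, Ne.symm ha1, Ne.symm hc.1, Ne.symm hc.2, rfl⟩] at hsub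
      omega
    have hiso : IsIsolated a := by
      intro g hg
      have hmem : g * a * g⁻¹ ∈ H := h.conj_eq_of_le_normalizer (fun b hb => ?_) ha
      · rcases hall _ hmem with e | e
        · exact absurd (by simpa using e) ha1
        · exact e
      · refine Subgroup.centralizer_le_normalizer _ (Subgroup.mem_centralizer_iff.2 fun c hc => ?_)
        rcases hall b hb with rfl | rfl
        · simp
        · rcases hall c hc with rfl | rfl
          · simp
          · exact hg.eq
    refine hcen a ha ha1 (Subgroup.mem_center_iff.2 fun g => ?_)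
    have := CfsgLib.ZStar.inZStar hord hiso g
    rw [hO, Subgroup.mem_bot, mul_inv_eq_one, mul_inv_eq_iff_eq_mul] at this
    exact this
  · letI : Fintype G := Fintype.ofFinite G
    refine false_of_local h hO hnc hHtop hq fun b hb hb1 => ?_
    have hHC : H ≤ Subgroup.centralizer ({b} : Set G) := fun c hc =>
      Subgroup.mem_centralizer_singleton_iff.2 (h.mul_comm hc hb)
    exact ih _ (hn ▸ ExtClosed.centralizer_lt (hcen b hb hb1)) _ rfl _ (h.subgroupOf hHC)

/-- The factorization for every finite group. -/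
theorem normalizer_sup_pPrimeCore {G : Type u} [Group G] [Finite G] (H : Subgroup G)
    (h : Hyp p H) : Subgroup.normalizer (H : Set G) ⊔ pPrimeCore p G = ⊤ :=
  factor _ G rfl H h

end CfsgLib.PairsSylow
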