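import Cfsg.Agent.Lib.ExtremelyClosed.Factor
import Cfsg.Agent.Lib.HallPi

/-!
# Abelian `p`-subgroups whose conjugates are controlled by invariant `p'`-subgroups

A weakening of extreme closure: every conjugate of `H` lies in `K H` for some `p'`-subgroup `K`
normalized by `H` such that `C_K(H) ≤ O_{p'}(C(H))`.
-/

set_option autoImplicit false
set_option linter.style.haveILetI false
set_option linter.unusedSectionVars false

universe u

namespace CfsgLib.PairsSylow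

open Cfsg
open scoped Pointwise commutatorElement

variable {G : Type u} [Group G] [Finite G] {p : ℕ} [Fact p.Prime] {H : Subgroup G}

/-- `O_{p'}(C_G(H))` as a subgroup of `G`. -/
def centCore (p : ℕ) (H : Subgroup G) : Subgroup G :=
  (pPrimeCore p ↥(Subgroup.centralizer (H : Set G))).map (Subgroup.centralizer (H : Set G)).subtype

theorem centCore_le_centralizer : centCore p H ≤ Subgroup.centralizer (H : Set G) :=
  Subgroup.map_subtype_le _

theorem not_dvd_card_centCore : ¬ p ∣ Nat.card (centCore p H) := by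
  rw [centCore, Subgroup.card_map_of_injective (Subgroup.subtype_injective _)]
  exact CfsgLib.not_dvd_card_pPrimeCore Fact.out

/-- A `p'`-subgroup of `C(H)` normalized by `C(H)` lies in `O_{p'}(C(H))`. -/
theorem le_centCore {X : Subgroup G} (hX : ¬ p ∣ Nat.card X) (hXC : X ≤ Subgroup.centralizer (H : Set G))
    (hn : Subgroup.centralizer (H : Set G) ≤ Subgroup.normalizer (X : Set G)) : X ≤ centCore p H := by
  set C := Subgroup.centralizer (H : Set G)
  haveI : (X.subgroupOf C).Normal := Subgroup.normal_subgroupOf_iff_le_normalizer hXC |>.2 hn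
  have h := CfsgLib.le_pPrimeCore (p := p) (N := X.subgroupOf C) (by
    rw [Nat.card_congr (Subgroup.subgroupOfEquivOfLe hXC).toEquiv]
    exact ((Fact.out : p.Prime).coprime_iff_not_dvd.2 hX).symm)
  intro x hx
  exact ⟨⟨x, hXC hx⟩, h (Subgroup.mem_subgroupOf.2 hx), rfl⟩

theorem centralizer_le_normalizer_centCore :
    Subgroup.centralizer (H : Set G) ≤ Subgroup.normalizer (centCore p H : Set G) := by
  have := Subgroup.le_normalizer_map (H := pPrimeCore p ↥(Subgroup.centralizer (H : Set G)))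
    (Subgroup.centralizer (H : Set G)).subtype
  rwa [Subgroup.normalizer_eq_top, ← MonoidHom.range_eq_map, Subgroup.range_subtype] at this

/-- `N(H)` normalizes `O_{p'}(C(H))`. -/
theorem conj_mem_centCore {n : G} (hn : n ∈ Subgroup.normalizer (H : Set G)) {d : G}
    (hd : d ∈ centCore p H) : n * d * n⁻¹ ∈ centCore p H := by
  set C := Subgroup.centralizer (H : Set G) with hC
  have hCn : ∀ m ∈ Subgroup.normalizer (H : Set G), ∀ c ∈ C, m * c * m⁻¹ ∈ C := by
    intro m hm c hc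
    rw [hC, Subgroup.mem_centralizer_iff] at hc ⊢
    intro a ha
    have h1 : m⁻¹ * a * m⁻¹⁻¹ ∈ H := (Subgroup.mem_normalizer_iff.1 (inv_mem hm) a).1 ha
    have h2 := hc _ h1
    calc a * (m * c * m⁻¹) = m * ((m⁻¹ * a * m⁻¹⁻¹) * c) * m⁻¹ := by group
      _ = m * (c * (m⁻¹ * a * m⁻¹⁻¹)) * m⁻¹ := by rw [h2]
      _ = m * c * m⁻¹ * a := by group
  have hle : (centCore p H).map (MulAut.conj n).toMonoidHom ≤ centCore p H := by
    refine le_centCore (fun h => not_dvd_card_centCore (p := p) (H := H) ?_) ?_ ?_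
    · rwa [Subgroup.card_map_of_injective (MulAut.conj n).injective] at h
    · rintro _ ⟨c, hc, rfl⟩
      exact hCn n hn c (centCore_le_centralizer hc)
    · intro c hc
      rw [Subgroup.mem_normalizer_iff]
      have key : ∀ c ∈ C, ∀ y ∈ (centCore p H).map (MulAut.conj n).toMonoidHom,
          c * y * c⁻¹ ∈ (centCore p H).map (MulAut.conj n).toMonoidHom := by
        rintro c hc _ ⟨e, he, rfl⟩
        have h1 : n⁻¹ * c * n⁻¹⁻¹ ∈ C := hCn _ (inv_mem hn) c hc
        refine ⟨(n⁻¹ * c * n⁻¹⁻¹) * e * (n⁻¹ * c * n⁻¹⁻¹)⁻¹,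
          (Subgroup.mem_normalizer_iff.1 (centralizer_le_normalizer_centCore h1) e).1 he, ?_⟩
        simp only [MulEquiv.coe_toMonoidHom, MulAut.conj_apply]
        group
      intro y
      refine ⟨key c hc y, fun hy => ?_⟩
      have := key c⁻¹ (inv_mem hc) _ hy
      simpa [mul_assoc] using this
  exact hle ⟨d, hd, rfl⟩

/-- An abelian `p`-subgroup with controlled conjugates. -/
structure Hyp (p : ℕ) (H : Subgroup G) : Prop where
  isP : IsPGroup p H
  comm : IsMulCommutative H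
  ctrl : ∀ g : G, ∃ K : Subgroup G, ¬ p ∣ Nat.card K ∧ H ≤ Subgroup.normalizer (K : Set G) ∧
    (∀ a ∈ H, g * a * g⁻¹ ∈ K ⊔ H) ∧
    K ⊓ Subgroup.centralizer (H : Set G) ≤ centCore p H

theorem Hyp.mul_comm (h : Hyp p H) {a b : G} (ha : a ∈ H) (hb : b ∈ H) : a * b = b * a :=
  congrArg Subtype.val (h.comm.is_comm.comm (⟨a, ha⟩ : H) ⟨b, hb⟩)

theorem Hyp.eq_one_of_mem_of_mem (h : Hyp p H) {K : Subgroup G} (hK : ¬ p ∣ Nat.card K) {c : G}
    (hc : c ∈ K) (hcH : c ∈ H) : c = 1 := by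
  obtain ⟨j, hj⟩ := IsPGroup.iff_orderOf.1 h.isP ⟨c, hcH⟩
  rw [Subgroup.orderOf_mk] at hj
  exact orderOf_eq_one_iff.1 (Nat.eq_one_of_dvd_coprimes
    (((Fact.out : p.Prime).coprime_iff_not_dvd.2 hK).pow_left j) (dvd_of_eq hj)
    (Subgroup.orderOf_dvd_natCard K hc))

/-- A `p`-element with all translates in `N(H)` shows weak closure. -/
theorem Hyp.conj_eq_of_le_normalizer (h : Hyp p H) {g : G}
    (hg : ∀ a ∈ H, g * a * g⁻¹ ∈ Subgroup.normalizer (H : Set G)) {a : G} (ha : a ∈ H) :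
    g * a * g⁻¹ ∈ H := by
  obtain ⟨K, hKp, hHK, hgK, -⟩ := h.ctrl g
  obtain ⟨c, hc, b, hb, hcb⟩ := CfsgLib.mem_sup_of_le_normalizer hHK (hgK a ha)
  have hcN : c ∈ Subgroup.normalizer (H : Set G) := by
    rw [show c = g * a * g⁻¹ * b⁻¹ by rw [← hcb]; group]
    exact mul_mem (hg a ha) (inv_mem (Subgroup.le_normalizer hb))
  have hcom : Commute c b := by
    have h1 : c * b * c⁻¹ * b⁻¹ = 1 := by
      refine h.eq_one_of_mem_of_mem hKp ?_ (H.mul_mem ((Subgroup.mem_normalizer_iff.1 hcN b).1 hb)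
        (H.inv_mem hb))
      rw [show c * b * c⁻¹ * b⁻¹ = c * (b * c⁻¹ * b⁻¹) by group]
      exact K.mul_mem hc ((Subgroup.mem_normalizer_iff.1 (hHK hb) _).1 (K.inv_mem hc))
    exact mul_inv_eq_iff_eq_mul.1 (mul_inv_eq_one.1 h1)
  obtain ⟨j, hj⟩ := IsPGroup.iff_orderOf.1 h.isP ⟨a, ha⟩
  rw [Subgroup.orderOf_mk] at hj
  have h2 : c ^ p ^ j * b ^ p ^ j = 1 := by
    rw [← hcom.mul_pow, hcb, conj_pow, ← hj, pow_orderOf_eq_one, mul_one, mul_inv_cancel]
  have h3 : c ^ p ^ j = 1 := by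
    refine h.eq_one_of_mem_of_mem hKp (K.pow_mem hc _) ?_
    rw [eq_inv_of_mul_eq_one_left h2]
    exact H.inv_mem (H.pow_mem hb _)
  have h4 : c = 1 := orderOf_eq_one_iff.1 (Nat.eq_one_of_dvd_coprimes
    (((Fact.out : p.Prime).coprime_iff_not_dvd.2 hKp).pow_left j)
    (orderOf_dvd_of_pow_eq_one h3) (Subgroup.orderOf_dvd_natCard K hc))
  rw [← hcb, h4, one_mul]
  exact hb

/-- `H` is normal in every `p`-subgroup containing it. -/
theorem Hyp.le_normalizer_of_isPGroup (h : Hyp p H) {P : Subgroup G} (hP : IsPGroup p P) (hHP : H ≤ P) :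
    P ≤ Subgroup.normalizer (H : Set G) := by
  haveI := hP.isNilpotent
  set N₁ := (Subgroup.normalizer (H : Set G)).subgroupOf P with hN₁
  by_contra hne
  have hlt : N₁ < ⊤ := lt_top_iff_ne_top.2 fun e => hne fun a ha => by
    have : (⟨a, ha⟩ : P) ∈ N₁ := e ▸ Subgroup.mem_top _
    exact Subgroup.mem_subgroupOf.1 this
  obtain ⟨y, hy, hyN⟩ := SetLike.exists_of_lt (Group.normalizerCondition_of_isNilpotent N₁ hlt)
  refine hyN (Subgroup.mem_subgroupOf.2 (ExtClosed.mem_normalizer_of_conj_mem fun a ha =>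
    h.conj_eq_of_le_normalizer (fun b hb => ?_) ha))
  have hb' : (⟨b, hHP hb⟩ : P) ∈ N₁ := Subgroup.mem_subgroupOf.2 (Subgroup.le_normalizer hb)
  exact Subgroup.mem_subgroupOf.1 ((Subgroup.mem_normalizer_iff.1 hy _).1 hb')

theorem Hyp.coprime_card (h : Hyp p H) {K : Subgroup G} (hK : ¬ p ∣ Nat.card K) :
    (Nat.card H).Coprime (Nat.card K) := by
  obtain ⟨n, hn⟩ := IsPGroup.iff_card.1 h.isP
  rw [hn]; exact ((Fact.out : p.Prime).coprime_iff_not_dvd.2 hK).pow_left n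

theorem Hyp.solvable (h : Hyp p H) : Group.IsSolvable H := by
  haveI := h.isP.isNilpotent; infer_instance

/-- Every `p`-element of `K H` is conjugate under `K` into `H`. -/
theorem Hyp.exists_conj_mem_of_sup (h : Hyp p H) {K : Subgroup G} (hK : ¬ p ∣ Nat.card K)
    (hHK : H ≤ Subgroup.normalizer (K : Set G)) {z : G} (hz : z ∈ K ⊔ H)
    (hzp : ∃ k : ℕ, orderOf z = p ^ k) : ∃ c ∈ K, c * z * c⁻¹ ∈ H := by
  have hp : p.Prime := Fact.out
  set U := K ⊔ H with hU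
  have hHU : H ≤ U := le_sup_right
  haveI hKn : (K.subgroupOf U).Normal :=
    Subgroup.normal_subgroupOf_iff_le_normalizer le_sup_left |>.2 (sup_le Subgroup.le_normalizer hHK)
  obtain ⟨S, hS⟩ := (h.isP.of_equiv (Subgroup.subgroupOfEquivOfLe hHU).symm).exists_le_sylow
  have hSeq : (S : Subgroup U) = H.subgroupOf U := by
    refine le_antisymm (fun s hs => ?_) hS
    obtain ⟨c, hc, b, hb, hcb⟩ := CfsgLib.mem_sup_of_le_normalizer hHK s.2
    have hbS : (⟨b, hHU hb⟩ : U) ∈ (S : Subgroup U) := hS (Subgroup.mem_subgroupOf.2 hb)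
    have hcS : (⟨c, Subgroup.mem_sup_left hc⟩ : U) ∈ (S : Subgroup U) := by
      have := (S : Subgroup U).mul_mem hs ((S : Subgroup U).inv_mem hbS)
      convert this using 1
      apply Subtype.ext
      show c = (s : G) * b⁻¹
      rw [← hcb]; group
    have hc1 : c = 1 := by
      obtain ⟨j, hj⟩ := IsPGroup.iff_orderOf.1 S.2 ⟨_, hcS⟩
      rw [Subgroup.orderOf_mk, ← Subgroup.orderOf_coe] at hj
      exact orderOf_eq_one_iff.1 (Nat.eq_one_of_dvd_coprimes
        ((hp.coprime_iff_not_dvd.2 hK).pow_left j) (dvd_of_eq hj)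
        (Subgroup.orderOf_dvd_natCard K hc))
    refine Subgroup.mem_subgroupOf.2 ?_
    rw [← hcb, hc1, one_mul]; exact hb
  obtain ⟨k, hk⟩ := hzp
  obtain ⟨R, hR⟩ := (IsPGroup.iff_card.2 ⟨k, by
    rw [Nat.card_zpowers, Subgroup.orderOf_mk, hk]⟩ :
      IsPGroup p (Subgroup.zpowers (⟨z, hz⟩ : U))).exists_le_sylow
  obtain ⟨w, hw⟩ := MulAction.exists_smul_eq U R S
  obtain ⟨c, hc, b, hb, hcb⟩ := CfsgLib.mem_sup_of_le_normalizer hHK (w⁻¹).2
  refine ⟨c⁻¹, K.inv_mem hc, ?_⟩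
  have hzS : w * ⟨z, hz⟩ * w⁻¹ ∈ (S : Subgroup U) := by
    rw [← hw, Sylow.coe_subgroup_smul]
    exact Subgroup.smul_mem_pointwise_smul _ (MulAut.conj w) _ (hR (Subgroup.mem_zpowers _))
  rw [hSeq, Subgroup.mem_subgroupOf] at hzS
  have e : c⁻¹ * z * c⁻¹⁻¹ = b * ((w : G) * z * (w : G)⁻¹) * b⁻¹ := by
    have hw' : (w : G) = b⁻¹ * c⁻¹ := by
      rw [← inv_inv (w : G), ← Subgroup.coe_inv, ← hcb, mul_inv_rev]
    rw [hw']; group
  rw [e]
  exact H.mul_mem (H.mul_mem hb hzS) (H.inv_mem hb)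

/-- The identification of `H` with a conjugate, as in the extremely closed case. -/
theorem Hyp.pair_product (h : Hyp p H) (g : G) :
    ∃ x : G, (∀ k ∈ H, ∃ k' ∈ H, g * k' * g⁻¹ = x * k * x⁻¹) ∧ ∀ a ∈ H, ∀ k ∈ H,
      (a * k = 1 → ¬ p ∣ orderOf (a * (x * k * x⁻¹))) ∧
      (a * k ≠ 1 → p ∣ orderOf (a * (x * k * x⁻¹)) ∧ ∃ K : Subgroup G,
        ¬ p ∣ Nat.card K ∧ H ≤ Subgroup.normalizer (K : Set G) ∧
        K ⊓ Subgroup.centralizer (H : Set G) ≤ centCore p H ∧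
        ∃ c ∈ K, Commute (a * k) c ∧ ∃ y : G, y * (a * (x * k * x⁻¹)) * y⁻¹ = a * k * c) := by
  classical
  have hp : p.Prime := Fact.out
  obtain ⟨K, hKp, hHK, hgK, hKC⟩ := h.ctrl g
  set L := K ⊔ H with hL
  have hKL : K ≤ L := le_sup_left
  have hHL : H ≤ L := le_sup_right
  have hKn : L ≤ Subgroup.normalizer (K : Set G) := sup_le Subgroup.le_normalizer hHK
  have hprod : ∀ y ∈ L, ∃ c ∈ K, ∃ a ∈ H, y = c * a := fun y hy => by
    obtain ⟨c, hc, a, ha, e⟩ := CfsgLib.mem_sup_of_le_normalizer hHK hy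
    exact ⟨c, hc, a, ha, e.symm⟩
  have hKH : ∀ c ∈ K, c ∈ H → c = 1 := fun c hc hcH => h.eq_one_of_mem_of_mem hKp hc hcH
  obtain ⟨c₀, hc₀, hc₀H⟩ := CfsgLib.exists_conj_complement (B := H.map (MulAut.conj g).toMonoidHom)
    hHK (h.coprime_card hKp) (Or.inl h.solvable) (by rintro _ ⟨a, ha, rfl⟩; exact hgK a ha)
    (Subgroup.card_map_of_injective (MulAut.conj g).injective)
  have hsurj : ∀ k ∈ H, ∃ k' ∈ H, g * k' * g⁻¹ = c₀ * k * c₀⁻¹ := by
    intro k hk
    have h1 : c₀ * k * c₀⁻¹ ∈ H.map (MulAut.conj g).toMonoidHom := by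
      rw [← hc₀H]
      exact Subgroup.smul_mem_pointwise_smul k (MulAut.conj c₀) H hk
    obtain ⟨k', hk', e⟩ := h1
    exact ⟨k', hk', e⟩
  refine ⟨c₀, hsurj, fun a ha k hk => ?_⟩
  set x := c₀ with hx
  have hxK : x ∈ K := hc₀
  set el := a * (x * k * x⁻¹) with hel
  have hxk : x * k * x⁻¹ ∈ L := L.mul_mem (L.mul_mem (hKL hxK) (hHL hk)) (L.inv_mem (hKL hxK))
  have helL : el ∈ L := L.mul_mem (hHL ha) hxk
  have hconjK : ∀ y ∈ L, ∀ c ∈ K, y * c * y⁻¹ ∈ K := fun y hy c hc =>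
    (Subgroup.mem_normalizer_iff.1 (hKn hy) c).1 hc
  have hmod : (a * k)⁻¹ * el ∈ K := by
    rw [show (a * k)⁻¹ * el = (k⁻¹ * x * k⁻¹⁻¹) * x⁻¹ by rw [hel]; group]
    exact K.mul_mem (hconjK _ (L.inv_mem (hHL hk)) _ hxK) (K.inv_mem hxK)
  refine ⟨fun h1 => ?_, fun h1 => ?_⟩
  · rw [h1, inv_one, one_mul] at hmod
    exact fun hd => hKp (hd.trans (Subgroup.orderOf_dvd_natCard K hmod))
  obtain ⟨z, w, hzw, hcom, hzp, hwr, hzm, hwm⟩ := CfsgLib.Blocks.exists_pPart hp el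
  have hzL : z ∈ L := Subgroup.zpowers_le.2 helL hzm
  have hwL : w ∈ L := Subgroup.zpowers_le.2 helL hwm
  have hwK : w ∈ K := ExtClosed.mem_of_pPrime_mem_sup h.isP hHK (sup_comm K H ▸ hwL) hwr
  obtain ⟨y, hy, hyz⟩ := h.exists_conj_mem_of_sup hKp hHK hzL hzp
  have hyzu : y * z * y⁻¹ = a * k := by
    refine ExtClosed.eq_of_mul_inv_mem hKH hyz (H.mul_mem ha hk) ?_
    have e1 : z = a * k * ((a * k)⁻¹ * el * w⁻¹) := by
      rw [eq_comm, show a * k * ((a * k)⁻¹ * el * w⁻¹) = el * w⁻¹ by group, ← hzw, mul_inv_cancel_right]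
    have hmem : (a * k)⁻¹ * el * w⁻¹ ∈ K := K.mul_mem hmod (K.inv_mem hwK)
    have hu : a * k ∈ L := hHL (H.mul_mem ha hk)
    rw [show y * z * y⁻¹ * (a * k)⁻¹ =
      y * ((a * k) * ((a * k)⁻¹ * el * w⁻¹ * y⁻¹) * (a * k)⁻¹) from ?_]
    swap
    · conv_lhs => rw [e1]
      group
    exact K.mul_mem hy (hconjK _ hu _ (K.mul_mem hmem (K.inv_mem hy)))
  refine ⟨?_, K, hKp, hHK, hKC, y * w * y⁻¹, hconjK y (hKL hy) w hwK, ?_, y, ?_⟩
  · obtain ⟨j, hj⟩ := hzp
    have hord : orderOf el = orderOf z * orderOf w := by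
      rw [← hcom.orderOf_mul_eq_mul_orderOf_of_coprime
        (by rw [hj]; exact (hp.coprime_iff_not_dvd.2 hwr).pow_left j), hzw]
    refine hord ▸ Dvd.dvd.mul_right ?_ _
    rw [hj]
    refine dvd_pow_self p fun e => h1 ?_
    rw [← hyzu, orderOf_eq_one_iff.1 (by rw [hj, e, pow_zero] : orderOf z = 1)]
    group
  · rw [← hyzu]
    exact hcom.map (MulAut.conj y).toMonoidHom
  · rw [← hyzu, ← hzw]; group

/-- The hypothesis passes to subgroups containing `H`. -/
theorem Hyp.subgroupOf (h : Hyp p H) {U : Subgroup G} (hHU : H ≤ U) : Hyp p (H.subgroupOf U) := by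
  refine ⟨h.isP.of_equiv (Subgroup.subgroupOfEquivOfLe hHU).symm,
    ⟨⟨fun a b => Subtype.ext (Subtype.ext (h.mul_comm (Subgroup.mem_subgroupOf.1 a.2)
      (Subgroup.mem_subgroupOf.1 b.2)))⟩⟩, fun g => ?_⟩
  obtain ⟨K, hKp, hHK, hgK, hKC⟩ := h.ctrl (g : G)
  refine ⟨K.subgroupOf U, fun hd => hKp (hd.trans ?_), fun b hb => ?_, fun a ha => ?_, ?_⟩
  · rw [← Subgroup.card_map_of_injective U.subtype_injective]
    exact Subgroup.card_dvd_of_le (by rintro _ ⟨c, hc, rfl⟩; exact hc)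
  · rw [Subgroup.mem_normalizer_iff]
    intro c
    exact Subgroup.mem_normalizer_iff.1 (hHK (Subgroup.mem_subgroupOf.1 hb)) (c : G)
  · obtain ⟨c, hc, b, hb, hcb⟩ :=
      CfsgLib.mem_sup_of_le_normalizer hHK (hgK (a : G) (Subgroup.mem_subgroupOf.1 ha))
    have hcU : c ∈ U := by
      rw [show c = (g : G) * a * (g : G)⁻¹ * b⁻¹ by rw [← hcb]; group]
      exact U.mul_mem (g * a * g⁻¹).2 (U.inv_mem (hHU hb))
    have e : g * a * g⁻¹ = (⟨c, hcU⟩ : U) * ⟨b, hHU hb⟩ := Subtype.ext hcb.symm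
    rw [e]
    exact Subgroup.mul_mem_sup (Subgroup.mem_subgroupOf.2 hc) (Subgroup.mem_subgroupOf.2 hb)
  · rintro c ⟨hc, hcC⟩
    have hcG : (c : G) ∈ centCore p H := hKC ⟨hc, Subgroup.mem_centralizer_iff.2 fun a ha =>
      congrArg Subtype.val (Subgroup.mem_centralizer_iff.1 hcC ⟨a, hHU ha⟩ (Subgroup.mem_subgroupOf.2 ha))⟩
    refine le_centCore (X := (centCore p H).subgroupOf U) (fun hd => not_dvd_card_centCore (p := p) (H := H)
      (hd.trans ?_)) (fun d hd => ?_) (fun d hd => ?_) (Subgroup.mem_subgroupOf.2 hcG)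
    · rw [← Subgroup.card_map_of_injective U.subtype_injective]
      exact Subgroup.card_dvd_of_le (by rintro _ ⟨e, he, rfl⟩; exact he)
    · refine Subgroup.mem_centralizer_iff.2 fun a ha => Subtype.ext ?_
      exact Subgroup.mem_centralizer_iff.1 (centCore_le_centralizer hd) _ (Subgroup.mem_subgroupOf.1 ha)
    · have hdC : (d : G) ∈ Subgroup.centralizer (H : Set G) := Subgroup.mem_centralizer_iff.2 fun a ha =>
        congrArg Subtype.val (Subgroup.mem_centralizer_iff.1 hd ⟨a, hHU ha⟩ (Subgroup.mem_subgroupOf.2 ha))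
      rw [Subgroup.mem_normalizer_iff]
      intro e
      exact Subgroup.mem_normalizer_iff.1 (centralizer_le_normalizer_centCore hdC) (e : G)

/-- The hypothesis passes to a quotient in which the normalizer of the image is the image of the normalizer. -/
theorem Hyp.map (h : Hyp p H) (N : Subgroup G) [N.Normal]
    (hN : (Subgroup.normalizer ((H.map (QuotientGroup.mk' N) : Subgroup (G ⧸ N)) : Set (G ⧸ N))).comap
      (QuotientGroup.mk' N) ≤ Subgroup.normalizer (H : Set G) ⊔ N) :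
    Hyp p (H.map (QuotientGroup.mk' N)) := by
  set π := QuotientGroup.mk' N with hπ
  refine ⟨h.isP.map _, ⟨⟨?_⟩⟩, fun gq => ?_⟩
  · rintro ⟨_, a, ha, rfl⟩ ⟨_, b, hb, rfl⟩
    refine Subtype.ext ?_
    show π a * π b = π b * π a
    rw [← map_mul, h.mul_comm ha hb, map_mul]
  obtain ⟨g, rfl⟩ := QuotientGroup.mk'_surjective N gq
  obtain ⟨K, hKp, hHK, hgK, hKC⟩ := h.ctrl g
  refine ⟨K.map π, fun hd => hKp (hd.trans (K.card_map_dvd π)),
    (Subgroup.map_mono hHK).trans (Subgroup.le_normalizer_map π), ?_, ?_⟩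
  · rintro _ ⟨a, ha, rfl⟩
    rw [← map_inv, ← map_mul, ← map_mul, ← Subgroup.map_sup]
    exact Subgroup.mem_map_of_mem π (hgK a ha)
  rintro _ ⟨⟨k, hk, rfl⟩, hkC⟩
  have hfix : ∀ a ∈ H, a * k * a⁻¹ * k⁻¹ ∈ N ⊓ K := by
    intro a ha
    refine ⟨?_, K.mul_mem ((Subgroup.mem_normalizer_iff.1 (hHK ha) k).1 hk) (K.inv_mem hk)⟩
    refine (QuotientGroup.eq_one_iff _).1 ?_
    show π _ = 1
    rw [map_mul, map_mul, map_mul, map_inv, map_inv,
      Subgroup.mem_centralizer_iff.1 hkC _ (Subgroup.mem_map_of_mem π ha), mul_inv_cancel_right,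
      mul_inv_cancel]
  have hn1 : K ≤ Subgroup.normalizer ((N ⊓ K : Subgroup G) : Set G) :=
    le_trans (le_inf (le_top.trans_eq (Subgroup.normalizer_eq_top N).symm) Subgroup.le_normalizer)
      Subgroup.inf_normalizer_le_normalizer_inf
  have hn2 : H ≤ Subgroup.normalizer ((N ⊓ K : Subgroup G) : Set G) :=
    le_trans (le_inf (le_top.trans_eq (Subgroup.normalizer_eq_top N).symm) hHK)
      Subgroup.inf_normalizer_le_normalizer_inf
  obtain ⟨c, hc, hkc⟩ := CfsgLib.coprime_fixed_quotient hHK (h.coprime_card hKp) (Or.inl h.solvable)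
    (inf_le_right : N ⊓ K ≤ K) hn1 hn2 hk hfix
  have hkc' : π k = π c := (QuotientGroup.eq).2 hkc.1
  rw [hkc']
  refine le_centCore (X := (centCore p H).map π) (fun hd => not_dvd_card_centCore (p := p) (H := H)
    (hd.trans ((centCore p H).card_map_dvd π))) ?_ ?_ (Subgroup.mem_map_of_mem π (hKC hc))
  · rintro _ ⟨d, hd, rfl⟩
    refine Subgroup.mem_centralizer_iff.2 ?_
    rintro _ ⟨a, ha, rfl⟩
    rw [← map_mul, Subgroup.mem_centralizer_iff.1 (centCore_le_centralizer hd) a ha, map_mul]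
  · intro d hd
    obtain ⟨d', rfl⟩ := QuotientGroup.mk'_surjective N d
    obtain ⟨n, hn, m, hm, rfl⟩ := Subgroup.mem_sup_of_normal_right.1
      (hN (Subgroup.centralizer_le_normalizer _ hd))
    have e : π (n * m) = π n := by
      rw [map_mul, show π m = 1 from (QuotientGroup.eq_one_iff m).2 hm, mul_one]
    rw [e]
    refine Subgroup.le_normalizer_map π ⟨n, Subgroup.mem_normalizer_iff.2 fun y => ⟨conj_mem_centCore hn, fun hy => ?_⟩, rfl⟩
    have := conj_mem_centCore (inv_mem hn) hy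
    simpa [mul_assoc] using this

/-- Frattini argument modulo a normal `p'`-subgroup. -/
theorem Hyp.comap_normalizer_le (h : Hyp p H) (N : Subgroup G) [N.Normal] (hNp : ¬ p ∣ Nat.card N) :
    (Subgroup.normalizer ((H.map (QuotientGroup.mk' N) : Subgroup (G ⧸ N)) : Set (G ⧸ N))).comap
      (QuotientGroup.mk' N) ≤ Subgroup.normalizer (H : Set G) ⊔ N := by
  intro x hx
  have hB : H.map (MulAut.conj x).toMonoidHom ≤ N ⊔ H := by
    rintro _ ⟨a, ha, rfl⟩
    rw [MulEquiv.coe_toMonoidHom, MulAut.conj_apply, sup_comm]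
    have hmem : QuotientGroup.mk' N (x * a * x⁻¹) ∈ H.map (QuotientGroup.mk' N) := by
      rw [map_mul, map_mul, map_inv]
      exact (Subgroup.mem_normalizer_iff.1 hx _).1 ⟨a, ha, rfl⟩
    rwa [← Subgroup.mem_comap, Subgroup.comap_map_eq, QuotientGroup.ker_mk'] at hmem
  obtain ⟨c, hc, hcH⟩ := CfsgLib.exists_conj_complement (B := H.map (MulAut.conj x).toMonoidHom)
    (le_top.trans_eq (Subgroup.normalizer_eq_top N).symm) (h.coprime_card hNp) (Or.inl h.solvable) hB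
    (Subgroup.card_map_of_injective (MulAut.conj x).injective)
  have hn : c⁻¹ * x ∈ Subgroup.normalizer (H : Set G) := ExtClosed.mem_normalizer_of_conj_mem fun a ha => by
    have h1 : x * a * x⁻¹ ∈ MulAut.conj c • H := by rw [hcH]; exact ⟨a, ha, rfl⟩
    obtain ⟨b, hb, e⟩ := h1
    have e' : c * b * c⁻¹ = x * a * x⁻¹ := e
    rw [show c⁻¹ * x * a * (c⁻¹ * x)⁻¹ = c⁻¹ * (x * a * x⁻¹) * c by group, ← e',
      show c⁻¹ * (c * b * c⁻¹) * c = b by group]
    exact hb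
  rw [show x = c * (c⁻¹ * x) by group]
  exact mul_mem (Subgroup.mem_sup_right hc) (Subgroup.mem_sup_left hn)

end CfsgLib.PairsSylow
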